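import Groth.Agent.SpSeqLib.Acyclic
import Mathlib.Algebra.Homology.HomotopyCategory.Acyclic

/-!
# Bounded below complexes of acyclic objects
-/

universe w v v' u u'

set_option linter.style.haveILetI false
set_option linter.unusedSectionVars false

open CategoryTheory CategoryTheory.Limits CategoryTheory.Pretriangulated HomologicalComplex

namespace SpSeqLib

variable {C : Type u} [Category.{v} C] [Abelian C] [EnoughInjectives C] [HasDerivedCategory.{w} C]
  [HasInjectiveResolutions C]
  {D : Type u'} [Category.{v'} D] [Abelian D] (S : C ⥤ D) [S.Additive] [PreservesFiniteLimits S]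

/-- The short complex `Zⁿ⁻¹ ⟶ Mⁿ⁻¹ ⟶ Zⁿ`. -/
noncomputable def cyclesSeq (M : CochainComplex C ℤ) (i j : ℤ) : ShortComplex C :=
  ShortComplex.mk (M.iCycles i) (M.toCycles i j) (by
    rw [← cancel_mono (M.iCycles j), Category.assoc, toCycles_i, iCycles_d, zero_comp])

lemma cyclesSeq_shortExact (M : CochainComplex C ℤ) (hM : M.Acyclic) (i j : ℤ) (h : i + 1 = j) :
    (cyclesSeq M i j).ShortExact := by
  haveI : Mono (cyclesSeq M i j).f := inferInstanceAs (Mono (M.iCycles i))
  haveI : Epi (cyclesSeq M i j).g := by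
    have hij : (ComplexShape.up ℤ).prev j = i := by simp; lia
    exact ((ShortComplex.mk _ _ (M.toCycles_comp_homologyπ i j)).exact_of_g_is_cokernel
      (M.homologyIsCokernel i j hij)).epi_f ((hM j).isZero_homology.eq_of_tgt _ _)
  refine ⟨ShortComplex.exact_of_f_is_kernel _ (KernelFork.IsLimit.ofι _ _
    (fun x hx => M.liftCycles x j (by simp; lia) ?_) (fun x hx => ?_) (fun x hx m hm => ?_))⟩
  · exact ((congrArg (x ≫ ·) (M.toCycles_i i j)).symm.trans ((Category.assoc _ _ _).symm.trans
      (hx =≫ M.iCycles j))).trans zero_comp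
  · exact M.liftCycles_i _ _ _ _
  · exact (cancel_mono (M.iCycles i)).1 (hm.trans (M.liftCycles_i _ _ _ _).symm)

lemma isSAcyclic_cycles (M : CochainComplex C ℤ) (m : ℤ) [M.IsStrictlyGE m] (hM : M.Acyclic)
    (hterms : ∀ n, IsSAcyclic S (M.X n)) (n : ℤ) : IsSAcyclic S (M.cycles n) := by
  have base : ∀ j < m, IsSAcyclic S (M.cycles j) := fun j hj =>
    isSAcyclic_of_isZero S (IsZero.of_mono (M.iCycles j) (M.isZero_of_isStrictlyGE m j hj))
  have step : ∀ k : ℕ, ∀ j < m + k, IsSAcyclic S (M.cycles j) := by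
    intro k
    induction k with
    | zero => intro j hj; exact base j (by simpa using hj)
    | succ k ih =>
      intro j hj
      exact IsSAcyclic.of_shortExact S (cyclesSeq_shortExact M hM (j - 1) j (by lia))
        (ih (j - 1) (by lia)) (hterms (j - 1))
  exact step (n - m + 1).toNat n (by lia)

theorem acyclic_map_of_isSAcyclic (M : CochainComplex C ℤ) (m : ℤ) [M.IsStrictlyGE m] (hM : M.Acyclic)
    (hterms : ∀ n, IsSAcyclic S (M.X n)) :
    ((S.mapHomologicalComplex _).obj M).Acyclic := by
  intro n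
  rw [exactAt_iff' _ (n - 1) n (n + 1) (by simp) (by simp), ShortComplex.exact_iff_exact_up_to_refinements]
  intro A x hx
  obtain ⟨l, hl⟩ := KernelFork.IsLimit.lift'
    (isLimitForkMapOfIsLimit' S _ (M.cyclesIsKernel n (n + 1) (by simp))) x hx
  have hl' : l ≫ S.map (M.iCycles n) = x := hl
  haveI : Epi (S.map (M.toCycles (n - 1) n)) :=
    IsSAcyclic.epi_map S (cyclesSeq_shortExact M hM (n - 1) n (by lia))
      (isSAcyclic_cycles S M m hM hterms (n - 1))
  obtain ⟨A', π, hπ, y, hy⟩ := surjective_up_to_refinements_of_epi (S.map (M.toCycles (n - 1) n)) l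
  refine ⟨A', π, hπ, y, ?_⟩
  refine ((congrArg (π ≫ ·) hl').symm.trans ((Category.assoc _ _ _).symm.trans
    (congrArg (· ≫ S.map (M.iCycles n)) hy))).trans ((Category.assoc _ _ _).trans ?_)
  exact congrArg (y ≫ ·) ((S.map_comp _ _).symm.trans (congrArg S.map (M.toCycles_i (n - 1) n)))

theorem quasiIso_map_of_isSAcyclic {K L : CochainComplex C ℤ} (i : K ⟶ L) [QuasiIso i] (m : ℤ)
    [K.IsStrictlyGE m] [L.IsStrictlyGE m] (hK : ∀ n, IsSAcyclic S (K.X n))
    (hL : ∀ n, IsSAcyclic S (L.X n)) :
    QuasiIso ((S.mapHomologicalComplex _).map i) := by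
  haveI : (CochainComplex.mappingCone i).IsStrictlyGE (m - 1) :=
    CochainComplex.isStrictlyGE_mappingCone i m m (m - 1)
  have hcone : (CochainComplex.mappingCone i).Acyclic := by
    rw [← HomotopyCategory.quotient_obj_mem_subcategoryAcyclic_iff_acyclic]
    refine ((HomotopyCategory.subcategoryAcyclic C).trW_iff_of_distinguished _
      (HomotopyCategory.mappingCone_triangleh_distinguished i)).1 ?_
    rw [← HomotopyCategory.quasiIso_eq_trW_subcategoryAcyclic]
    exact (HomotopyCategory.quotient_map_mem_quasiIso_iff i).2 (by simpa using (inferInstance : QuasiIso i))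
  have hterms : ∀ n, IsSAcyclic S ((CochainComplex.mappingCone i).X n) := fun n q hq =>
    ((IsSAcyclic.biprod S (hK (n + 1)) (hL n)) q hq).of_iso (Functor.mapIso _
      (homotopyCofiber.XIsoBiprod i n (n + 1) rfl))
  have h := acyclic_map_of_isSAcyclic S _ (m - 1) hcone hterms
  have h' : (CochainComplex.mappingCone ((S.mapHomologicalComplex _).map i)).Acyclic := fun n =>
    (h n).of_iso (CochainComplex.mappingCone.mapHomologicalComplexIso i S)
  rw [← HomotopyCategory.quotient_obj_mem_subcategoryAcyclic_iff_acyclic] at h'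
  have := ((HomotopyCategory.subcategoryAcyclic D).trW_iff_of_distinguished _
      (HomotopyCategory.mappingCone_triangleh_distinguished ((S.mapHomologicalComplex _).map i))).2 h'
  rw [← HomotopyCategory.quasiIso_eq_trW_subcategoryAcyclic] at this
  exact (HomologicalComplex.mem_quasiIso_iff _).1
    ((HomotopyCategory.quotient_map_mem_quasiIso_iff _).1 this)

/-- A bounded below complex of acyclic objects computes `phi`. -/
theorem nonempty_phiShiftQPlus_iso (K : CochainComplex C ℤ) (m : ℤ) [K.IsStrictlyGE m]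
    (hK : ∀ n, IsSAcyclic S (K.X n)) (n : ℤ) :
    Nonempty (((phi S).shift n).obj (qPlus K ⟨m, inferInstance⟩) ≅
      ((S.mapHomologicalComplex _).obj K).homology n) := by
  obtain ⟨L, i, _, _, _⟩ := CochainComplex.Plus.modelCategoryQuillen.exists_quasiIso_injective K m
  haveI := quasiIso_map_of_isSAcyclic S i m hK (fun n => isSAcyclic_of_injective S (L.X n))
  exact ⟨((phi S).shift n).mapIso (qPlusIso (hL := ⟨m, inferInstance⟩) i) ≪≫
    phiShiftQPlusIso S L m n ≪≫ (isoOfQuasiIsoAt ((S.mapHomologicalComplex _).map i) n).symm⟩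

end SpSeqLib
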