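import Groth.Prelude.Def_SpSeq
import Mathlib.CategoryTheory.Subobject.Lattice
import Mathlib.Algebra.Homology.ShortComplex.HomologicalComplex

/-!
# Spectral sequences with a single nonzero term in each degree
-/

universe v u

set_option linter.style.haveILetI false

open CategoryTheory CategoryTheory.Limits

namespace SpSeqLib

variable {C : Type u} [Category.{v} C] [Abelian C] {r₀ : ℤ} (E : CohomologicalSpectralSequence C r₀)

theorem isZero_page_of_le (r : ℤ) (hr : r₀ ≤ r) (pq : ℤ × ℤ) (h : IsZero ((E.page r hr).X pq))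
    (k : ℤ) (hk : r ≤ k) : IsZero ((E.page k (hr.trans hk)).X pq) := by
  induction k, hk using Int.leInduction with
  | base => exact h
  | succ k hk ih =>
    exact (ShortComplex.isZero_homology_of_isZero_X₂ ((E.page k (hr.trans hk)).sc pq) ih).of_iso
      (E.iso k (k + 1) pq rfl (hr.trans hk)).symm

theorem nonempty_page_iso_succ (pq : ℤ × ℤ) (r : ℤ) (hst : SpSeq.StationaryAt E pq r)
    (k : ℤ) (hk : r ≤ k) :
    Nonempty ((E.page (k + 1) (by have := hst.1; lia)).X pq ≅ (E.page k (hst.1.trans hk)).X pq) := by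
  obtain ⟨h₁, h₂⟩ := hst.2 k (hst.1.trans hk) hk
  let K := E.page k (hst.1.trans hk)
  have hp : (ComplexShape.up' (⟨k, 1 - k⟩ : ℤ × ℤ)).prev pq = pq - (k, 1 - k) :=
    ComplexShape.prev_eq' _ (by simp)
  have hn : (ComplexShape.up' (⟨k, 1 - k⟩ : ℤ × ℤ)).next pq = pq + (k, 1 - k) :=
    ComplexShape.next_eq' _ (by simp)
  have hf : (K.sc pq).f = 0 := by
    change K.d _ pq = 0
    rw [hp]; exact h₁
  have hg : (K.sc pq).g = 0 := by
    change K.d pq _ = 0
    rw [hn]; exact h₂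
  exact ⟨(E.iso k (k + 1) pq rfl (hst.1.trans hk)).symm ≪≫
    (ShortComplex.HomologyData.ofZeros (K.sc pq) hf hg).left.homologyIso⟩

theorem nonempty_page_iso_of_stationary (pq : ℤ × ℤ) (r : ℤ) (hst : SpSeq.StationaryAt E pq r)
    (k : ℤ) (hk : r ≤ k) :
    Nonempty ((E.page k (hst.1.trans hk)).X pq ≅ (E.page r hst.1).X pq) := by
  induction k, hk using Int.leInduction with
  | base => exact ⟨Iso.refl _⟩
  | succ k hk ih =>
    obtain ⟨e⟩ := nonempty_page_iso_succ E pq r hst k hk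
    exact ⟨e ≪≫ ih.some⟩

theorem isZero_grPiece_of_isZero_page (r : ℤ) (hr : r₀ ≤ r) (pq : ℤ × ℤ)
    (h : IsZero ((E.page r hr).X pq)) {H : ℤ → C} (a : SpSeq.Abutment E H) :
    IsZero (SpSeq.grPiece (a.fil (pq.1 + pq.2)) (a.anti (pq.1 + pq.2)) pq.1) := by
  refine IsZero.of_iso ?_ (a.β pq).symm
  obtain ⟨e⟩ := nonempty_page_iso_of_stationary E pq (a.rk pq) (a.stat pq) (max (a.rk pq) r) (le_max_left _ _)
  exact (isZero_page_of_le E r hr pq h (max (a.rk pq) r) (le_max_right _ _)).of_iso e.symm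

lemma eq_of_isZero_subquot {X : C} {B Z : Subobject X} (h : B ≤ Z) (hz : IsZero (SpSeq.subquot Z B h)) :
    B = Z := by
  haveI : Epi (B.ofLE Z h) := Preadditive.epi_of_isZero_cokernel _ hz
  haveI : IsIso (B.ofLE Z h) := isIso_of_mono_of_epi _
  refine le_antisymm h (Subobject.le_of_comm (inv (B.ofLE Z h)) ?_)
  rw [IsIso.inv_comp_eq, Subobject.ofLE_arrow]

theorem nonempty_iso_of_single (r : ℤ) (hr : r₀ ≤ r) {H : ℤ → C} (a : SpSeq.Abutment E H) (n p₀ : ℤ)
    (hz : ∀ p, p ≠ p₀ → IsZero ((E.page r hr).X (p, n - p)))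
    (hdisc : (a.filObj n).IsDiscrete) (hexh : a.IsExhaustive n)
    (hst : SpSeq.StationaryAt E (p₀, n - p₀) r) :
    Nonempty (H n ≅ (E.page r hr).X (p₀, n - p₀)) := by
  have hgr : ∀ p, p ≠ p₀ → a.fil n (p + 1) = a.fil n p := fun p hp => by
    have h := isZero_grPiece_of_isZero_page E r hr (p, n - p) (hz p hp) a
    have h' : ∀ m, m = n → IsZero (SpSeq.grPiece (a.fil m) (a.anti m) p) →
        IsZero (SpSeq.grPiece (a.fil n) (a.anti n) p) := by rintro m rfl hm; exact hm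
    exact eq_of_isZero_subquot _ (h' _ (by simp) h)
  obtain ⟨b, hb⟩ := hdisc
  have hup : ∀ (d : ℕ) (p : ℤ), b ≤ p + d → p₀ < p → a.fil n p = ⊥ := by
    intro d
    induction d with
    | zero => exact fun p hp _ => le_bot_iff.1 (hb ▸ a.anti n (by simpa using hp))
    | succ d ih =>
      intro p hp hp'
      rw [← hgr p hp'.ne']
      exact ih (p + 1) (by push_cast at hp; lia) (by lia)
  have hbot : a.fil n (p₀ + 1) = ⊥ := hup (b - (p₀ + 1)).toNat (p₀ + 1) (by lia) (by lia)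
  have hdown : ∀ d : ℕ, a.fil n (p₀ - d) = a.fil n p₀ := by
    intro d
    induction d with
    | zero => simp
    | succ d ih =>
      rw [← ih, ← hgr (p₀ - (d + 1 : ℕ)) (by push_cast; lia)]
      congr 1; push_cast; lia
  have htop : a.fil n p₀ = ⊤ := by
    refine top_le_iff.1 (hexh.2 ?_)
    rintro _ ⟨p, rfl⟩
    change a.fil n p ≤ a.fil n p₀
    by_cases hp : p₀ ≤ p
    · exact a.anti n hp
    · obtain ⟨d, rfl⟩ : ∃ d : ℕ, p = p₀ - d := ⟨(p₀ - p).toNat, by lia⟩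
      exact le_of_eq (hdown d)
  let β : (E.page (a.rk (p₀, n - p₀)) (a.stat (p₀, n - p₀)).1).X (p₀, n - p₀) ≅
      SpSeq.grPiece (a.fil n) (a.anti n) p₀ :=
    a.β (p₀, n - p₀) ≪≫ eqToIso ((by rintro m rfl; rfl : ∀ m, m = n → SpSeq.grPiece (a.fil m) (a.anti m) p₀ = SpSeq.grPiece (a.fil n) (a.anti n) p₀) _ (by simp))
  have hzero : IsZero (a.fil n (p₀ + 1) : C) := by
    rw [hbot]
    exact (isZero_zero C).of_iso Subobject.botCoeIsoZero
  haveI : IsIso (cokernel.π ((a.fil n (p₀ + 1)).ofLE (a.fil n p₀) (a.anti n (Int.le_add_one le_rfl)))) :=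
    cokernel.π_of_zero (hzero.eq_of_src _ _)
  haveI : IsIso (a.fil n p₀).arrow := by rw [htop]; infer_instance
  obtain ⟨e₁⟩ := nonempty_page_iso_of_stationary E (p₀, n - p₀) r hst (max r (a.rk _)) (le_max_left _ _)
  obtain ⟨e₂⟩ := nonempty_page_iso_of_stationary E (p₀, n - p₀) _ (a.stat _) (max r (a.rk (p₀, n - p₀)))
    (le_max_right _ _)
  exact ⟨(asIso (a.fil n p₀).arrow).symm ≪≫
    asIso (cokernel.π ((a.fil n (p₀ + 1)).ofLE (a.fil n p₀) (a.anti n (Int.le_add_one le_rfl)))) ≪≫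
    β.symm ≪≫ e₂.symm ≪≫ e₁⟩

end SpSeqLib
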