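import Groth.Prelude.Def_SpSeq
import Mathlib.Algebra.Homology.SpectralObject.SpectralSequence
import Mathlib.Algebra.Homology.SpectralObject.FirstPage
import Mathlib.Algebra.Homology.SpectralObject.EpiMono
import Mathlib.CategoryTheory.Abelian.Refinements
import Mathlib.Data.Int.Interval

/-!
# Convergence of the E₂ spectral sequence of a first quadrant spectral object

For a first quadrant spectral object `Y` indexed by `EInt`, the filtration of `H^n(⊥ ≤ ⊤)` by the
images of the `H^n(⊥ ≤ j)` makes it an abutment (`SpSeq.Abutment`) of `Y.E₂SpectralSequence`,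
with finite filtrations.
-/

universe v u

set_option linter.style.haveILetI false

open CategoryTheory CategoryTheory.Limits CategoryTheory.Abelian ComposableArrows
open CategoryTheory.Abelian.SpectralObject

namespace SpSeqLib

variable {C : Type u} [Category.{v} C] [Abelian C] (Y : SpectralObject C EInt)

/-- The total object in degree `n`. -/
noncomputable abbrev total (n : ℤ) : C := (Y.H n).obj (mk₁ (homOfLE (le_top : (⊥ : EInt) ≤ ⊤)))

/-- The map `H^n(⊥ ≤ j) ⟶ H^n(⊥ ≤ ⊤)`. -/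
noncomputable abbrev toTotal (n : ℤ) (j : EInt) :
    (Y.H n).obj (mk₁ (homOfLE (bot_le : ⊥ ≤ j))) ⟶ total Y n :=
  (Y.H n).map (twoδ₂Toδ₁' ⊥ j ⊤ bot_le le_top)

lemma map_toTotal (n : ℤ) (i j : EInt) (h : i ≤ j) :
    (Y.H n).map (twoδ₂Toδ₁' ⊥ i j bot_le h) ≫ toTotal Y n j = toTotal Y n i := by
  rw [← Functor.map_comp]
  congr 1

variable {H : ℤ → C} (e : ∀ n, H n ≅ total Y n)

/-- The map `H^n(⊥ ≤ j) ⟶ H n`. -/
noncomputable abbrev toH (n : ℤ) (j : EInt) :
    (Y.H n).obj (mk₁ (homOfLE (bot_le : ⊥ ≤ j))) ⟶ H n :=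
  toTotal Y n j ≫ (e n).inv

lemma imageSubobject_toH_mono (n : ℤ) (i j : EInt) (h : i ≤ j) :
    imageSubobject (toH Y e n i) ≤ imageSubobject (toH Y e n j) := by
  have h₁ : (Y.H n).map (twoδ₂Toδ₁' ⊥ i j bot_le h) ≫ toH Y e n j = toH Y e n i :=
    (Category.assoc _ _ _).symm.trans (congrArg (· ≫ (e n).inv) (map_toTotal Y n i j h))
  have h₂ := imageSubobject_comp_le ((Y.H n).map (twoδ₂Toδ₁' ⊥ i j bot_le h)) (toH Y e n j)
  simp only [h₁] at h₂
  exact h₂

/-- The filtration of the abutment. -/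
noncomputable def fil (n p : ℤ) : Subobject (H n) :=
  imageSubobject (toH Y e n ((n - p + 1 : ℤ) : EInt))

lemma fil_anti (n : ℤ) : Antitone (fil Y e n) := fun p q h =>
  imageSubobject_toH_mono Y e n _ _ (WithBotTop.coe_le_coe.2 (by lia))

instance epi_factorThruImageSubobject {X Z : C} (f : X ⟶ Z) : Epi (factorThruImageSubobject f) :=
  inferInstanceAs (Epi (factorThruImage f ≫ (imageSubobjectIso f).inv))

/-- `E^n(⊥ ≤ a ≤ b ≤ ⊤)` is the subquotient `im H^n(⊥ ≤ b) / im H^n(⊥ ≤ a)`. -/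
theorem nonempty_E_iso_subquot (n₀ n n₂ : ℤ) (hn₁ : n₀ + 1 = n) (hn₂ : n + 1 = n₂)
    (a b : EInt) (hab : a ≤ b) :
    Nonempty (Y.E (homOfLE (bot_le : ⊥ ≤ a)) (homOfLE hab) (homOfLE (le_top : b ≤ ⊤)) n₀ n n₂ hn₁ hn₂ ≅
      SpSeq.subquot (imageSubobject (toH Y e n b)) (imageSubobject (toH Y e n a))
        (imageSubobject_toH_mono Y e n a b hab)) := by
  let Fb := imageSubobject (toH Y e n b)
  let Fa := imageSubobject (toH Y e n a)
  let ι := Fa.ofLE Fb (imageSubobject_toH_mono Y e n a b hab)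
  let A₁ := (Y.H n).map (twoδ₂Toδ₁' ⊥ a b bot_le hab)
  let A₂ := Y.δ (homOfLE (bot_le : ⊥ ≤ b)) (homOfLE (le_top : b ≤ ⊤)) n₀ n hn₁
  have hfac : A₁ ≫ factorThruImageSubobject (toH Y e n b) =
      factorThruImageSubobject (toH Y e n a) ≫ ι := by
    rw [← cancel_mono Fb.arrow, Category.assoc, Category.assoc, Subobject.ofLE_arrow,
      imageSubobject_arrow_comp, imageSubobject_arrow_comp]
    exact (Category.assoc _ _ _).symm.trans (congrArg (· ≫ (e n).inv) (map_toTotal Y n a b hab))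
  have hδ : A₂ ≫ factorThruImageSubobject (toH Y e n b) = 0 := by
    rw [← cancel_mono Fb.arrow, Category.assoc, imageSubobject_arrow_comp, zero_comp]
    exact (Category.assoc _ _ _).symm.trans
      ((congrArg (· ≫ (e n).inv) (Y.zero₁ _ _ _ rfl n₀ n hn₁)).trans zero_comp)
  let g : (Y.H n).obj (mk₁ (homOfLE (bot_le : ⊥ ≤ b))) ⟶ cokernel ι :=
    factorThruImageSubobject (toH Y e n b) ≫ cokernel.π ι
  have zero : biprod.desc A₁ A₂ ≫ g = 0 := by
    apply biprod.hom_ext'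
    · rw [biprod.inl_desc_assoc, comp_zero, ← Category.assoc, hfac, Category.assoc, cokernel.condition,
        comp_zero]
    · rw [biprod.inr_desc_assoc, comp_zero, ← Category.assoc, hδ, zero_comp]
  haveI : Epi g := epi_comp _ _
  have hex : (ShortComplex.mk (biprod.desc A₁ A₂) g zero).Exact := by
    rw [ShortComplex.exact_iff_exact_up_to_refinements]
    intro A x hx
    dsimp at x hx
    obtain ⟨R₁, π₁, hπ₁, w, hw⟩ :=
      (ShortComplex.exact_of_g_is_cokernel (ShortComplex.mk ι (cokernel.π ι) (cokernel.condition ι))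
        (cokernelIsCokernel ι)).exact_up_to_refinements (x ≫ factorThruImageSubobject (toH Y e n b))
        ((Category.assoc _ _ _).trans hx)
    dsimp at w hw
    obtain ⟨R₂, π₂, hπ₂, y, hy⟩ := surjective_up_to_refinements_of_epi
      (factorThruImageSubobject (toH Y e n a)) w
    have hz : (π₂ ≫ π₁ ≫ x - y ≫ A₁) ≫ toTotal Y n b = 0 := by
      rw [← cancel_mono (e n).inv, zero_comp, Category.assoc]
      change _ ≫ toH Y e n b = 0
      rw [← imageSubobject_arrow_comp (toH Y e n b), ← Category.assoc, Preadditive.sub_comp]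
      have : (π₂ ≫ π₁ ≫ x) ≫ factorThruImageSubobject (toH Y e n b) =
          (y ≫ A₁) ≫ factorThruImageSubobject (toH Y e n b) := by
        calc _ = π₂ ≫ w ≫ ι := by rw [← hw]; simp only [Category.assoc]
          _ = (y ≫ factorThruImageSubobject (toH Y e n a)) ≫ ι := by rw [← Category.assoc, hy]
          _ = _ := by rw [Category.assoc, Category.assoc, hfac]
      rw [this, sub_self, zero_comp]
    obtain ⟨R₃, π₃, hπ₃, v, hv⟩ := (Y.exact₁ (homOfLE (bot_le : ⊥ ≤ b)) (homOfLE (le_top : b ≤ ⊤))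
      _ rfl n₀ n hn₁).exact_up_to_refinements _ hz
    dsimp at v hv
    refine ⟨R₃, π₃ ≫ π₂ ≫ π₁, inferInstance, biprod.lift (π₃ ≫ y) v, ?_⟩
    dsimp
    rw [biprod.lift_desc]
    have hv' : π₃ ≫ (π₂ ≫ π₁ ≫ x - y ≫ A₁) = v ≫ A₂ := hv
    refine Eq.trans ?_ (congrArg ((π₃ ≫ y) ≫ A₁ + ·) hv')
    simp only [Category.assoc, Preadditive.comp_sub]
    exact (add_sub_cancel _ _).symm
  exact ⟨IsColimit.coconePointUniqueUpToIso
    (Y.cokernelSequenceE_exact (homOfLE (bot_le : ⊥ ≤ a)) (homOfLE hab) (homOfLE (le_top : b ≤ ⊤))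
      (homOfLE (bot_le : ⊥ ≤ b)) rfl n₀ n n₂ hn₁ hn₂).gIsCokernel hex.gIsCokernel⟩

variable [Y.IsFirstQuadrant]

/-- The page from which a position is stationary. -/
def stage (pq : ℤ × ℤ) : ℤ := |pq.1| + |pq.2| + 3

lemma two_le_stage (pq : ℤ × ℤ) : 2 ≤ stage pq := by
  simp only [stage]
  have := abs_nonneg pq.1; have := abs_nonneg pq.2
  lia

lemma isZero_page_of_fst_neg (r : ℤ) (hr : 2 ≤ r) (p q : ℤ) (hp : p < 0) :
    IsZero ((Y.E₂SpectralSequence.page r hr).X (p, q)) := by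
  apply isZero_spectralSequence_page_X_of_isZero_H' _ _ _ hr
  exact Y.isZero₂_of_isFirstQuadrant _ _ _ _ (by simp; lia)

lemma isZero_page_of_snd_neg (r : ℤ) (hr : 2 ≤ r) (p q : ℤ) (hq : q < 0) :
    IsZero ((Y.E₂SpectralSequence.page r hr).X (p, q)) := by
  apply isZero_spectralSequence_page_X_of_isZero_H' _ _ _ hr
  exact Y.isZero₁_of_isFirstQuadrant _ _ _ (by simp; lia) _

lemma stationaryAt (pq : ℤ × ℤ) : SpSeq.StationaryAt Y.E₂SpectralSequence pq (stage pq) := by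
  refine ⟨two_le_stage pq, fun r hr hr' => ?_⟩
  obtain ⟨p, q⟩ := pq
  have h₁ := le_abs_self p; have h₂ := le_abs_self q
  have h₃ := abs_nonneg p; have h₄ := abs_nonneg q
  simp only [stage] at hr'
  exact ⟨(isZero_page_of_fst_neg Y r hr (p - r) (q - (1 - r)) (by lia)).eq_of_src _ _,
    (isZero_page_of_snd_neg Y r hr (p + r) (q + (1 - r)) (by lia)).eq_of_tgt _ _⟩

/-- The limit term at `pq`. -/
theorem nonempty_stage_iso_grPiece (pq : ℤ × ℤ) :
    Nonempty ((Y.E₂SpectralSequence.page (stage pq) (two_le_stage pq)).X pq ≅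
      SpSeq.grPiece (fil Y e (pq.1 + pq.2)) (fil_anti Y e _) pq.1) := by
  obtain ⟨p, q⟩ := pq
  have h₁ := le_abs_self p; have h₂ := le_abs_self q
  have h₃ := abs_nonneg p; have h₄ := abs_nonneg q
  have h₅ := neg_le_abs p; have h₆ := neg_le_abs q
  let r := stage (p, q)
  have hr : r = |p| + |q| + 3 := rfl
  let a : EInt := ((p + q - (p + 1) + 1 : ℤ) : EInt)
  let b : EInt := ((p + q - p + 1 : ℤ) : EInt)
  have hab : a ≤ b := WithBotTop.coe_le_coe.2 (by lia)
  let i₀ : EInt := ((q - r + 2 : ℤ) : EInt)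
  let i₃ : EInt := ((q + r - 1 : ℤ) : EInt)
  have h₀₁ : i₀ ≤ a := WithBotTop.coe_le_coe.2 (by lia)
  have h₂₃ : b ≤ i₃ := WithBotTop.coe_le_coe.2 (by lia)
  obtain ⟨e⟩ := nonempty_E_iso_subquot Y e (p + q - 1) (p + q) (p + q + 1) (by lia) rfl a b hab
  refine ⟨Y.spectralSequencePageXIso coreE₂Cohomological r (two_le_stage _) (p, q) i₀ a b i₃
    rfl (by simp [a]) (by simp [b]) rfl (p + q - 1) (p + q) (p + q + 1) rfl (by lia) rfl ≪≫
    (Y.isoMapFourδ₁Toδ₀' ⊥ i₀ a b i₃ bot_le h₀₁ hab h₂₃ _ _ _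
      (Y.isZero₁_of_isFirstQuadrant _ _ _ (by simp [i₀]; lia) _) (by lia) rfl).symm ≪≫
    Y.isoMapFourδ₄Toδ₃' ⊥ a b i₃ ⊤ bot_le hab h₂₃ le_top _ _ _
      (Y.isZero₂_of_isFirstQuadrant _ _ _ _ (by simp [i₃]; lia)) (by lia) rfl ≪≫ e⟩

/-- The abutment data. -/
noncomputable def abutment : SpSeq.Abutment Y.E₂SpectralSequence H where
  fil := fil Y e
  anti := fil_anti Y e
  rk := stage
  stat := stationaryAt Y
  β pq := (nonempty_stage_iso_grPiece Y e pq).some

lemma isFinite_abutment (n : ℤ) : (abutment Y e).IsFinite n := by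
  refine ⟨⟨0, ?_⟩, ⟨n + 1, ?_⟩⟩
  · change imageSubobject (toH Y e n ((n - 0 + 1 : ℤ) : EInt)) = ⊤
    haveI : Epi (toTotal Y n ((n - 0 + 1 : ℤ) : EInt)) :=
      (Y.exact₂ _ _ _ rfl n).epi_f ((Y.isZero₂_of_isFirstQuadrant _ _ le_top n
        (WithBotTop.coe_lt_coe.2 (by lia))).eq_of_tgt _ _)
    haveI : Epi (toH Y e n ((n - 0 + 1 : ℤ) : EInt)) := epi_comp _ _
    haveI : Epi (imageSubobject (toH Y e n ((n - 0 + 1 : ℤ) : EInt))).arrow :=
      epi_of_epi_fac (imageSubobject_arrow_comp _)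
    haveI := isIso_of_mono_of_epi (imageSubobject (toH Y e n ((n - 0 + 1 : ℤ) : EInt))).arrow
    exact Subobject.eq_top_of_isIso_arrow _
  · change imageSubobject (toH Y e n ((n - (n + 1) + 1 : ℤ) : EInt)) = ⊥
    have : toH Y e n ((n - (n + 1) + 1 : ℤ) : EInt) = 0 :=
      (Y.isZero₁_of_isFirstQuadrant _ _ bot_le (WithBotTop.coe_le_coe.2 (by lia)) n).eq_of_src _ _
    simp only [this]
    exact imageSubobject_zero

lemma isBounded : SpSeq.IsBounded Y.E₂SpectralSequence := by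
  intro n
  refine (Set.finite_Icc 0 n).subset fun p (hp : ¬ IsZero _) => ⟨?_, ?_⟩
  · by_contra h
    exact hp (isZero_page_of_fst_neg Y 2 le_rfl p _ (by lia))
  · by_contra h
    exact hp (isZero_page_of_snd_neg Y 2 le_rfl p _ (by lia))

/-- The `E₂` term. -/
noncomputable def pageTwoIso (p q : ℤ) :
    (Y.E₂SpectralSequence.page 2 le_rfl).X (p, q) ≅
      (Y.H (p + q)).obj (mk₁ (homOfLE (show ((q : ℤ) : EInt) ≤ ((q + 1 : ℤ) : EInt) from
        WithBotTop.coe_le_coe.2 (by lia)))) :=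
  Y.spectralSequenceFirstPageXIso coreE₂Cohomological (p, q) _ _ rfl rfl (p + q) rfl

end SpSeqLib
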