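import Mathlib.CategoryTheory.Triangulated.SpectralObject
import Mathlib.CategoryTheory.Triangulated.HomologicalFunctor
import Mathlib.Algebra.Homology.SpectralObject.Basic

/-!
# The abelian spectral object given by a homological functor and a triangulated spectral object
-/

universe w v₁ v₂ u₁ u₂

open CategoryTheory CategoryTheory.Limits CategoryTheory.Pretriangulated ComposableArrows

namespace SpSeqLib

variable {D : Type u₁} [Category.{v₁} D] [HasZeroObject D] [HasShift D ℤ] [Preadditive D]
  [∀ n : ℤ, (shiftFunctor D n).Additive] [Pretriangulated D]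
  {A : Type u₂} [Category.{v₂} A] [Abelian A]
  {ι : Type w} [Category ι] (X : Triangulated.SpectralObject D ι)
  (F : D ⥤ A) [F.IsHomological] [F.ShiftSequence ℤ]

/-- Applying a homological functor to a spectral object of a triangulated category. -/
noncomputable def mapHomological : Abelian.SpectralObject A ι where
  H n := X.ω₁ ⋙ F.shift n
  δ' n₀ n₁ h :=
    { app := fun D => F.homologySequenceδ (X.ω₂.obj D) n₀ n₁ h
      naturality := fun D D' φ =>
        F.homologySequenceδ_naturality (X.ω₂.obj D) (X.ω₂.obj D') (X.ω₂.map φ) n₀ n₁ h }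
  exact₁' n₀ n₁ h D := (F.homologySequence_exact₁ _ (X.ω₂_obj_distinguished D) n₀ n₁ h).exact_toComposableArrows
  exact₂' n D := (F.homologySequence_exact₂ _ (X.ω₂_obj_distinguished D) n).exact_toComposableArrows
  exact₃' n₀ n₁ h D := (F.homologySequence_exact₃ _ (X.ω₂_obj_distinguished D) n₀ n₁ h).exact_toComposableArrows

end SpSeqLib
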