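import Groth.Agent.SpSeqLib.AcyclicComplex
import Groth.Agent.SpSeqLib.FirstQuadrant
import Groth.Agent.SpSeqLib.Homological
import Mathlib.CategoryTheory.Triangulated.TStructure.SpectralObject

/-!
# The Grothendieck spectral sequence
-/

universe w v v' v'' u u' u''

set_option linter.style.haveILetI false
set_option linter.unusedSectionVars false

open CategoryTheory CategoryTheory.Limits CategoryTheory.Pretriangulated
open scoped ZeroObject

namespace SpSeqLib

variable {C : Type u} [Category.{v} C] [Abelian C] [EnoughInjectives C] [HasDerivedCategory.{w} C]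
  [HasInjectiveResolutions C]
  {D : Type u'} [Category.{v'} D] [Abelian D] (S : C ⥤ D) [S.Additive] [PreservesFiniteLimits S]

open DerivedCategory.Plus (TStructure.t)

/-- The abelian spectral object of an object of `D⁺`. -/
noncomputable def spectralObj (X : DerivedCategory.Plus C) : Abelian.SpectralObject D EInt :=
  mapHomological (DerivedCategory.Plus.TStructure.t.spectralObject X) (phi S)

instance isFirstQuadrant_spectralObj (X : DerivedCategory.Plus C) [X.IsGE 0] :
    (spectralObj S X).IsFirstQuadrant where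
  isZero₁ i j hij hj n := by
    change IsZero (((phi S).shift n).obj ((DerivedCategory.Plus.TStructure.t.eTruncGE.obj i).obj
      ((DerivedCategory.Plus.TStructure.t.eTruncLT.obj j).obj X)))
    exact Functor.map_isZero _ (Functor.map_isZero _
      (DerivedCategory.Plus.TStructure.t.isZero_eTruncLT_obj_obj X 0 j hj))
  isZero₂ i j hij n hi := by
    change IsZero (((phi S).shift n).obj ((DerivedCategory.Plus.TStructure.t.eTruncGE.obj i).obj
      ((DerivedCategory.Plus.TStructure.t.eTruncLT.obj j).obj X)))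
    induction i using WithBotTop.rec with
    | bot => exact absurd hi (by simp)
    | coe k =>
      haveI := DerivedCategory.Plus.TStructure.t.isGE_eTruncGE_obj_obj k (k : EInt) le_rfl
        ((DerivedCategory.Plus.TStructure.t.eTruncLT.obj j).obj X)
      exact isZero_phiShift_of_isGE S _ k n (by simpa using hi)
    | top => exact Functor.map_isZero _ (Functor.zero_obj _)

/-- The abutment is `phi`. -/
noncomputable def totalIso (X : DerivedCategory.Plus C) (n : ℤ) :
    total (spectralObj S X) n ≅ ((phi S).shift n).obj X :=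
  Iso.refl _

/-- The subquotient in degree `q` is concentrated in degree `q`. -/
theorem nonempty_phiShift_trunc_iso (X : DerivedCategory.Plus C) (p q : ℤ) :
    Nonempty (((phi S).shift (p + q)).obj ((DerivedCategory.Plus.TStructure.t.truncGE q).obj
        ((DerivedCategory.Plus.TStructure.t.truncLT (q + 1)).obj X)) ≅
      (phiSingle S p).obj ((DerivedCategory.Plus.homologyFunctor C q).obj X)) := by
  let t := DerivedCategory.Plus.TStructure.t (C := C)
  let H := DerivedCategory.Plus.homologyFunctor C 0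
  let W₁ := (t.truncLT (q + 1)).obj X
  let W := (t.truncGE q).obj W₁
  haveI hLT : (t.truncLT (q + 1)).obj X |>.IsLE q := t.isLE_truncLT_obj X _ _
  haveI : W.IsLE q := inferInstanceAs (t.IsLE _ q)
  haveI : W.IsGE q := inferInstanceAs (t.IsGE _ q)
  have i₁ : IsIso ((H.shift q).map ((t.truncLTι (q + 1)).app X)) := by
    have hT := t.triangleLTGE_distinguished (q + 1) X
    haveI : ((t.truncGE (q + 1)).obj X).IsGE (q + 1) := inferInstanceAs (t.IsGE _ _)
    have := H.homologySequence_mono_shift_map_mor₁_iff _ hT (q - 1) q (by lia) |>.2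
      ((DerivedCategory.Plus.isZero_homology_of_isGE _ (q + 1) (q - 1) (by lia)).eq_of_src _ _)
    have := H.homologySequence_epi_shift_map_mor₁_iff _ hT q |>.2
      ((DerivedCategory.Plus.isZero_homology_of_isGE _ (q + 1) q (by lia)).eq_of_tgt _ _)
    exact isIso_of_mono_of_epi ((H.shift q).map ((t.triangleLTGE (q + 1)).obj X).mor₁)
  have i₂ : IsIso ((H.shift q).map ((t.truncGEπ q).app W₁)) := by
    have hT := t.triangleLTGE_distinguished q W₁
    haveI : ((t.truncLT q).obj W₁).IsLE (q - 1) := t.isLE_truncLT_obj _ _ _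
    have := H.homologySequence_mono_shift_map_mor₂_iff _ hT q |>.2
      ((DerivedCategory.Plus.isZero_homology_of_isLE _ (q - 1) q (by lia)).eq_of_src _ _)
    have := H.homologySequence_epi_shift_map_mor₂_iff _ hT q (q + 1) rfl |>.2
      ((DerivedCategory.Plus.isZero_homology_of_isLE _ (q - 1) (q + 1) (by lia)).eq_of_tgt _ _)
    exact isIso_of_mono_of_epi ((H.shift q).map ((t.triangleLTGE q).obj W₁).mor₂)
  have eH : (H.shift q).obj W ≅ (H.shift q).obj X :=
    (@asIso _ _ _ _ _ i₂).symm ≪≫ @asIso _ _ _ _ _ i₁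
  haveI : (DerivedCategory.Plus.ι.obj W).IsGE q := inferInstance
  haveI : (DerivedCategory.Plus.ι.obj W).IsLE q := inferInstance
  obtain ⟨Z, ⟨eW⟩⟩ := DerivedCategory.exists_iso_singleFunctor_obj_of_isGE_of_isLE
    (DerivedCategory.Plus.ι.obj W) q
  let eW' : W ≅ (DerivedCategory.Plus.singleFunctor C q).obj Z :=
    DerivedCategory.Plus.ι.preimageIso eW
  let eZ : Z ≅ (DerivedCategory.Plus.homologyFunctor C q).obj X :=
    (HomologicalComplex.singleObjHomologySelfIso (ComplexShape.up ℤ) q Z).symm ≪≫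
      ((DerivedCategory.homologyFunctorFactors C q).app _).symm ≪≫
      (DerivedCategory.homologyFunctor C q).mapIso eW.symm ≪≫ eH
  exact ⟨((phi S).shift (p + q)).mapIso eW' ≪≫
    (((phi S).shiftIso q p (p + q) (add_comm q p)).app _).symm ≪≫
    ((phi S).shift p).mapIso (((DerivedCategory.Plus.singleFunctors C).shiftIso q 0 q (add_zero q)).app Z) ≪≫
    (phiSingle S p).mapIso eZ⟩

variable {A₀ : Type u''} [Category.{v''} A₀] [Abelian A₀] [HasInjectiveResolutions A₀]
  (T : A₀ ⥤ C) [T.Additive]

/-- The Grothendieck spectral sequence. -/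
theorem exists_grothendieck_spectralSequence
    (hT : ∀ Q : A₀, Injective Q → ∀ q : ℕ, 0 < q → IsZero ((S.rightDerived q).obj (T.obj Q))) (A : A₀)
    (H : ℤ → D) (hH : ∀ n : ℕ, Nonempty (H n ≅ ((T ⋙ S).rightDerived n).obj A))
    (hH' : ∀ n : ℤ, n < 0 → IsZero (H n)) :
    ∃ (E : E₂CohomologicalSpectralSequence D) (a : SpSeq.Abutment E H),
      (∀ n, a.IsFinite n) ∧ SpSeq.IsBounded E ∧
      (∀ p q : ℕ, Nonempty ((E.page 2 le_rfl).X ((p : ℤ), (q : ℤ)) ≅
        (S.rightDerived p).obj ((T.rightDerived q).obj A))) ∧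
      ∀ p q : ℤ, p < 0 ∨ q < 0 → IsZero ((E.page 2 le_rfl).X (p, q)) := by
  let R : InjectiveResolution A := injectiveResolution A
  let M₀ := (T.mapHomologicalComplex _).obj R.cocomplex
  let M : CochainComplex C ℤ := M₀.extend ComplexShape.embeddingUpNat
  haveI : M.IsStrictlyGE 0 := by
    dsimp [M]; infer_instance
  have hM : ∀ n, IsSAcyclic S (M.X n) := by
    intro n
    by_cases hn : 0 ≤ n
    · obtain ⟨k, rfl⟩ := Int.eq_ofNat_of_zero_le hn
      intro q hq
      exact ((isSAcyclic_iff S (M₀.X k)).2 (hT _ (R.injective k)) q hq).of_iso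
        (Functor.mapIso _ (M₀.extendXIso ComplexShape.embeddingUpNat (i := k) rfl))
    · exact isSAcyclic_of_isZero S (M.isZero_of_isStrictlyGE 0 n (by lia))
  let X := qPlus M ⟨0, inferInstance⟩
  haveI : X.IsGE 0 := by
    rw [← DerivedCategory.Plus.isGE_ι_obj_iff]
    exact inferInstanceAs ((DerivedCategory.Q.obj M).IsGE 0)
  let Y := spectralObj S X
  have e₀ : ∀ n : ℤ, Nonempty (H n ≅ total Y n) := by
    intro n
    by_cases hn : 0 ≤ n
    · obtain ⟨k, rfl⟩ := Int.eq_ofNat_of_zero_le hn
      obtain ⟨e₁⟩ := hH k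
      obtain ⟨e₂⟩ := nonempty_phiShiftQPlus_iso S M 0 hM k
      exact ⟨e₁ ≪≫ R.isoRightDerivedObj (T ⋙ S) k ≪≫
        (HomologicalComplex.extendHomologyIso ((S.mapHomologicalComplex _).obj M₀)
          ComplexShape.embeddingUpNat (j := k) (j' := (k : ℤ)) rfl).symm ≪≫
        (HomologicalComplex.homologyMapIso (mapExtendNatIso S M₀) (k : ℤ)).symm ≪≫ e₂.symm ≪≫
        (totalIso S X k).symm⟩
    · exact ⟨(hH' n (by lia)).iso ((isZero_phiShift_of_isGE S X 0 n (by lia)).of_iso (totalIso S X n))⟩
  let e := fun n => (e₀ n).some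
  refine ⟨Y.E₂SpectralSequence, abutment Y e, isFinite_abutment Y e, isBounded Y, fun p q => ?_,
    fun p q h => h.elim (isZero_page_of_fst_neg Y 2 le_rfl p q) (isZero_page_of_snd_neg Y 2 le_rfl p q)⟩
  obtain ⟨e₁⟩ := nonempty_phiShift_trunc_iso S X (p : ℤ) (q : ℤ)
  obtain ⟨e₂⟩ := nonempty_phiSingle_iso S ((T.rightDerived q).obj A) p
  let eq : (DerivedCategory.Plus.homologyFunctor C (q : ℤ)).obj X ≅ (T.rightDerived q).obj A :=
    (DerivedCategory.homologyFunctorFactors C (q : ℤ)).app M ≪≫
      HomologicalComplex.extendHomologyIso M₀ ComplexShape.embeddingUpNat (j := q) (j' := (q : ℤ)) rfl ≪≫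
      (R.isoRightDerivedObj T q).symm
  exact ⟨pageTwoIso Y p q ≪≫ e₁ ≪≫ (phiSingle S p).mapIso eq ≪≫ e₂⟩

end SpSeqLib
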