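import Groth.Agent.SpSeqLib.DerivedPlus
import Mathlib.CategoryTheory.Abelian.RightDerived
import Mathlib.CategoryTheory.Abelian.Injective.Extend
import Mathlib.Algebra.Homology.DerivedCategory.SingleTriangle
import Mathlib.CategoryTheory.Abelian.Refinements

/-!
# Acyclic resolutions compute the derived functor on `D⁺`
-/

universe w v v' u u'

set_option linter.style.haveILetI false
set_option linter.unusedSectionVars false

open CategoryTheory CategoryTheory.Limits CategoryTheory.Pretriangulated

namespace SpSeqLib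

variable {C : Type u} [Category.{v} C] [Abelian C] [EnoughInjectives C] [HasDerivedCategory.{w} C]
  {D : Type u'} [Category.{v'} D] [Abelian D] (S : C ⥤ D) [S.Additive]

/-- The image in `D⁺` of a bounded below complex. -/
noncomputable abbrev qPlus (K : CochainComplex C ℤ) (hK : CochainComplex.plus C K) :
    DerivedCategory.Plus C :=
  DerivedCategory.Plus.Q.obj ⟨K, hK⟩

/-- `phi` on a complex of injectives. -/
noncomputable def phiShiftQPlusIso (K : CochainComplex C ℤ) (m : ℤ) [K.IsStrictlyGE m]
    [∀ i, Injective (K.X i)] (n : ℤ) :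
    ((phi S).shift n).obj (qPlus K ⟨m, inferInstance⟩) ≅
      ((S.mapHomologicalComplex _).obj K).homology n :=
  let K' : CochainComplex (InjectiveObject C) ℤ :=
    HomologicalComplex.liftObjectProperty _ K inferInstance
  have : K'.IsStrictlyGE m := by
    rw [← CochainComplex.isStrictlyGE_mapHomologicalComplex_obj_iff _ (InjectiveObject.ι _)]
    assumption
  phiShiftToDPlusIso S ((HomotopyCategory.Plus.quotient _).obj ⟨K', m, this⟩) n ≪≫
    (HomotopyCategory.homologyFunctorFactors D (ComplexShape.up ℤ) n).app _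

/-- An iso in `D⁺` out of a quasi-isomorphism. -/
noncomputable def qPlusIso {K L : CochainComplex C ℤ} {hK : CochainComplex.plus C K}
    {hL : CochainComplex.plus C L} (i : K ⟶ L) [QuasiIso i] : qPlus K hK ≅ qPlus L hL :=
  DerivedCategory.Plus.ι.preimageIso (@asIso (DerivedCategory C) _ _ _ (DerivedCategory.Q.map i)
    ((DerivedCategory.isIso_Q_map_iff_quasiIso _ i).2 inferInstance))

lemma isZero_phiShift_of_isGE (Y : DerivedCategory.Plus C) (m n : ℤ) [Y.IsGE m] (h : n < m) :
    IsZero (((phi S).shift n).obj Y) := by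
  obtain ⟨L, hL, ⟨e⟩⟩ := DerivedCategory.Plus.exists_injective_nonempty_iso Y m
  let K := ((InjectiveObject.ι C).mapHomologicalComplex (.up ℤ)).obj L.obj
  haveI : CochainComplex.IsStrictlyGE K m := (CochainComplex.isStrictlyGE_mapHomologicalComplex_obj_iff _ _ _).2 hL
  haveI : ∀ i, Injective (K.X i) := fun i => (L.obj.X i).property
  have hS : IsZero ((((S.mapHomologicalComplex _).obj K)).X n) :=
    S.map_isZero (CochainComplex.isZero_of_isStrictlyGE K m n h)
  refine IsZero.of_iso ?_ (((phi S).shift n).mapIso e.symm ≪≫ phiShiftQPlusIso S K m n)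
  exact ShortComplex.isZero_homology_of_isZero_X₂ _ hS

lemma conj_comm {A B A' B' X Y : D} (p : A ⟶ B) (α : A' ≅ B) (d : B ⟶ X) (β : Y ≅ X) (r : X ⟶ B')
    (s : B' ⟶ X) (h : r ≫ s = 𝟙 X) :
    (p ≫ α.inv) ≫ α.hom ≫ d ≫ β.inv = (p ≫ d ≫ r) ≫ s ≫ β.inv := by
  simp only [Category.assoc, Iso.inv_hom_id_assoc, reassoc_of% h]

/-- Extension by zero along `ℕ → ℤ` commutes with additive functors. -/
noncomputable def mapExtendNatXIso (K : CochainComplex C ℕ) (n : ℤ) :
    S.obj ((K.extend ComplexShape.embeddingUpNat).X n) ≅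
      (((S.mapHomologicalComplex _).obj K).extend ComplexShape.embeddingUpNat).X n :=
  if h : 0 ≤ n then
    S.mapIso (K.extendXIso ComplexShape.embeddingUpNat (i := n.toNat) (Int.toNat_of_nonneg h)) ≪≫
      (((S.mapHomologicalComplex _).obj K).extendXIso ComplexShape.embeddingUpNat (i := n.toNat)
        (Int.toNat_of_nonneg h)).symm
  else
    (S.map_isZero (K.isZero_extend_X ComplexShape.embeddingUpNat n (by intro i hi; simp at hi; lia))).iso
      (((S.mapHomologicalComplex _).obj K).isZero_extend_X ComplexShape.embeddingUpNat n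
        (by intro i hi; simp at hi; lia))

/-- Extension by zero along `ℕ → ℤ` commutes with additive functors. -/
noncomputable def mapExtendNatIso (K : CochainComplex C ℕ) :
    (S.mapHomologicalComplex _).obj (K.extend ComplexShape.embeddingUpNat) ≅
      ((S.mapHomologicalComplex _).obj K).extend ComplexShape.embeddingUpNat :=
  HomologicalComplex.Hom.isoOfComponents (mapExtendNatXIso S K) (by
    rintro n _ rfl
    by_cases h : 0 ≤ n
    · obtain ⟨k, rfl⟩ := Int.eq_ofNat_of_zero_le h
      dsimp [mapExtendNatXIso]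
      rw [dif_pos (show (0 : ℤ) ≤ k + 1 by lia), Functor.mapHomologicalComplex_obj_d,
        K.extend_d_eq ComplexShape.embeddingUpNat (i := (k : ℤ).toNat) (j := ((k : ℤ) + 1).toNat)
          (by simp) (by simp),
        HomologicalComplex.extend_d_eq _ ComplexShape.embeddingUpNat (i := (k : ℤ).toNat)
          (j := ((k : ℤ) + 1).toNat) (by simp) (by simp)]
      simp only [S.map_comp, Iso.trans_hom, Iso.symm_hom, Functor.mapIso_hom]
      exact conj_comm _ _ _ _ _ _ ((S.map_comp _ _).symm.trans
        ((congrArg S.map (Iso.inv_hom_id _)).trans (S.map_id _)))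
    · exact (S.map_isZero (K.isZero_extend_X ComplexShape.embeddingUpNat n
        (by intro i hi; simp at hi; lia))).eq_of_src _ _)

/-- The degree `q` derived functor as a value of `phi`. -/
noncomputable abbrev phiSingle (q : ℤ) : C ⥤ D :=
  DerivedCategory.Plus.singleFunctor C 0 ⋙ (phi S).shift q

/-- `phi` on a single complex is the right derived functor. -/
theorem nonempty_phiSingle_iso [HasInjectiveResolutions C] (Z : C) (q : ℕ) :
    Nonempty ((phiSingle S q).obj Z ≅ (S.rightDerived q).obj Z) := by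
  let R : InjectiveResolution Z := injectiveResolution Z
  have e₁ : (DerivedCategory.Plus.singleFunctor C 0).obj Z ≅
      qPlus ((CochainComplex.singleFunctor C 0).obj Z) ⟨0, inferInstance⟩ :=
    DerivedCategory.Plus.ι.preimageIso ((DerivedCategory.singleFunctorIsoCompQ C 0).app Z)
  let F : CochainComplex D ℤ := (S.mapHomologicalComplex _).obj R.cochainComplex
  have eF : F ≅ ((S.mapHomologicalComplex _).obj R.cocomplex).extend ComplexShape.embeddingUpNat :=
    mapExtendNatIso S R.cocomplex
  exact ⟨((phi S).shift (q : ℤ)).mapIso (e₁ ≪≫ qPlusIso (hL := ⟨0, inferInstance⟩) R.ι') ≪≫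
    phiShiftQPlusIso S R.cochainComplex 0 q ≪≫
    HomologicalComplex.homologyMapIso eF q ≪≫
    HomologicalComplex.extendHomologyIso _ _ rfl ≪≫ (R.isoRightDerivedObj S q).symm⟩

/-- Objects all of whose higher derived functors vanish. -/
def IsSAcyclic (Z : C) : Prop := ∀ q : ℕ, 0 < q → IsZero ((phiSingle S q).obj Z)

lemma map_preimage_comp {A B : Type*} [Category* A] [Category* B] (G : A ⥤ B) [G.Full] {X Y : A} {Z : B}
    (x : G.obj X ⟶ Z) (e : G.obj Y ≅ Z) : G.map (G.preimage (x ≫ e.inv)) ≫ e.hom = x := by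
  simp

/-- The distinguished triangle in `D⁺` of a short exact sequence. -/
noncomputable def singlePlusTriangle {T : ShortComplex C} (hT : T.ShortExact) :
    Triangle (DerivedCategory.Plus C) :=
  Triangle.mk ((DerivedCategory.Plus.singleFunctor C 0).map T.f)
    ((DerivedCategory.Plus.singleFunctor C 0).map T.g)
    (DerivedCategory.Plus.ι.preimage (hT.singleδ ≫ (DerivedCategory.Plus.ι.commShiftIso (1 : ℤ)).inv.app
      ((DerivedCategory.Plus.singleFunctor C 0).obj T.X₁)))

lemma singlePlusTriangle_distinguished {T : ShortComplex C} (hT : T.ShortExact) :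
    singlePlusTriangle hT ∈ distTriang (DerivedCategory.Plus C) := by
  rw [← DerivedCategory.Plus.ι.map_distinguished_iff]
  refine isomorphic_distinguished _ hT.singleTriangle_distinguished _
    (Triangle.isoMk _ _ (Iso.refl _) (Iso.refl _) (Iso.refl _) ?_ ?_ ?_)
  · exact (Category.comp_id _).trans (Category.id_comp _).symm
  · exact (Category.comp_id _).trans (Category.id_comp _).symm
  · refine ((congrArg (_ ≫ ·) (CategoryTheory.Functor.map_id _ _)).trans (Category.comp_id _)).trans
      (Eq.trans ?_ (Category.id_comp _).symm)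
    exact map_preimage_comp DerivedCategory.Plus.ι
      (X := (DerivedCategory.Plus.singleFunctor C 0).obj T.X₃) (Y := ((DerivedCategory.Plus.singleFunctor C 0).obj T.X₁)⟦(1 : ℤ)⟧) hT.singleδ
      ((DerivedCategory.Plus.ι.commShiftIso (1 : ℤ)).app ((DerivedCategory.Plus.singleFunctor C 0).obj T.X₁))

/-- Dimension shifting: the cokernel of a mono between acyclic objects is acyclic. -/
lemma IsSAcyclic.of_shortExact {T : ShortComplex C} (hT : T.ShortExact)
    (h₁ : IsSAcyclic S T.X₁) (h₂ : IsSAcyclic S T.X₂) : IsSAcyclic S T.X₃ := fun q hq =>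
  ((phi S).homologySequence_exact₃ _ (singlePlusTriangle_distinguished hT) (q : ℤ) ((q + 1 : ℕ) : ℤ)
    (by simp)).isZero_of_both_zeros ((h₂ q hq).eq_of_src _ _) ((h₁ (q + 1) q.succ_pos).eq_of_tgt _ _)

variable [HasInjectiveResolutions C]

lemma isSAcyclic_iff (Z : C) :
    IsSAcyclic S Z ↔ ∀ q : ℕ, 0 < q → IsZero ((S.rightDerived q).obj Z) :=
  ⟨fun h q hq => (h q hq).of_iso (nonempty_phiSingle_iso S Z q).some.symm,
    fun h q hq => (h q hq).of_iso (nonempty_phiSingle_iso S Z q).some⟩

lemma isSAcyclic_of_injective (I : C) [Injective I] : IsSAcyclic S I := by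
  rw [isSAcyclic_iff]
  rintro (_ | q) hq
  · exact absurd hq (lt_irrefl 0)
  · exact S.isZero_rightDerived_obj_injective_succ q I

instance (q : ℤ) : ((phi S).shift q).Additive :=
  Functor.additive_of_iso ((phi S).isoShift q)

lemma isSAcyclic_of_isZero {Z : C} (hZ : IsZero Z) : IsSAcyclic S Z := fun _ _ =>
  Functor.map_isZero _ hZ

lemma IsSAcyclic.biprod {X Y : C} (hX : IsSAcyclic S X) (hY : IsSAcyclic S Y) :
    IsSAcyclic S (X ⊞ Y) := fun q hq =>
  ((phi S).homologySequence_exact₂ _ (singlePlusTriangle_distinguished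
    (ShortComplex.Splitting.ofHasBinaryBiproduct X Y).shortExact) (q : ℤ)).isZero_of_both_zeros
      ((hX q hq).eq_of_src _ _) ((hY q hq).eq_of_tgt _ _)

/-- `S` is exact on short exact sequences with acyclic kernel. -/
lemma IsSAcyclic.epi_map [PreservesFiniteLimits S] {T : ShortComplex C} (hT : T.ShortExact)
    (h₁ : IsSAcyclic S T.X₁) : Epi (S.map T.g) := by
  haveI := hT.mono_f
  haveI := hT.epi_g
  let R : InjectiveResolution T.X₁ := injectiveResolution T.X₁
  let ι₀ : T.X₁ ⟶ R.cocomplex.X 0 := R.ι.f 0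
  have hι : ι₀ ≫ R.cocomplex.d 0 1 = 0 := R.ι_f_zero_comp_complex_d
  haveI : Mono ι₀ := inferInstanceAs (Mono (R.ι.f 0))
  let h : T.X₂ ⟶ R.cocomplex.X 0 := Injective.factorThru ι₀ T.f
  have hh : T.f ≫ h = ι₀ := Injective.comp_factorThru _ _
  have hd : T.f ≫ h ≫ R.cocomplex.d 0 1 = 0 := by
    rw [reassoc_of% hh]; exact hι
  let h' : T.X₃ ⟶ R.cocomplex.X 1 := hT.exact.desc (h ≫ R.cocomplex.d 0 1) hd
  have hh' : T.g ≫ h' = h ≫ R.cocomplex.d 0 1 := hT.exact.g_desc _ _
  have hh'' : h' ≫ R.cocomplex.d 1 2 = 0 := by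
    rw [← cancel_epi T.g, reassoc_of% hh', HomologicalComplex.d_comp_d, comp_zero, comp_zero]
  let P : ShortComplex C := ShortComplex.mk (biprod.lift h T.g)
    (biprod.desc (R.cocomplex.d 0 1) (-h')) (by simp [biprod.lift_desc, hh'])
  haveI : Mono P.f := Preadditive.mono_of_cancel_zero _ fun {W} m hm => by
    have h₀ : m ≫ T.g = 0 := by simpa [P] using hm =≫ biprod.snd
    have h₂ : m ≫ h = 0 := by simpa [P] using hm =≫ biprod.fst
    have hu : hT.exact.lift m h₀ ≫ T.f = m := hT.exact.lift_f _ _
    have : hT.exact.lift m h₀ = 0 := by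
      rw [← cancel_mono ι₀, zero_comp, ← hh, reassoc_of% hu, h₂]
    rw [← hu, this, zero_comp]
  have hP : P.Exact := by
    rw [ShortComplex.exact_iff_exact_up_to_refinements]
    intro A w hw
    dsimp [P] at w hw
    obtain ⟨A₁, π₁, _, m, hm⟩ := surjective_up_to_refinements_of_epi T.g (w ≫ biprod.snd)
    have hz : (π₁ ≫ w ≫ biprod.fst - m ≫ h) ≫ R.cocomplex.d 0 1 = 0 := by
      have e₁ : (w ≫ biprod.fst) ≫ R.cocomplex.d 0 1 = (w ≫ biprod.snd) ≫ h' := by
        rw [biprod.desc_eq, Preadditive.comp_add, Preadditive.comp_neg, Preadditive.comp_neg,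
          ← sub_eq_add_neg, sub_eq_zero] at hw
        simpa only [Category.assoc] using hw
      rw [Preadditive.sub_comp, Category.assoc, e₁, ← Category.assoc, hm, Category.assoc, hh',
        Category.assoc, sub_self]
    obtain ⟨u, hu⟩ : { u : A₁ ⟶ T.X₁ // u ≫ ι₀ = π₁ ≫ w ≫ biprod.fst - m ≫ h } :=
      KernelFork.IsLimit.lift' R.isLimitKernelFork _ hz
    refine ⟨A₁, π₁, inferInstance, m + u ≫ T.f, ?_⟩
    dsimp [P]
    apply biprod.hom_ext
    · simp only [Category.assoc, biprod.lift_fst, Preadditive.add_comp, hh, hu]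
      exact (add_sub_cancel _ _).symm
    · simp only [Category.assoc, biprod.lift_snd, Preadditive.add_comp, T.zero, comp_zero, add_zero]
      exact hm
  have hS : (P.map S).Exact := hP.map_of_mono_of_preservesKernel S inferInstance inferInstance
  haveI : Mono (P.map S).f := inferInstanceAs (Mono (S.map P.f))
  have h₂ : (ShortComplex.mk (S.map (R.cocomplex.d 0 1)) (S.map (R.cocomplex.d 1 2))
      (by rw [← S.map_comp, HomologicalComplex.d_comp_d, S.map_zero])).Exact := by
    change (((S.mapHomologicalComplex _).obj R.cocomplex).sc' 0 1 2).Exact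
    rw [← HomologicalComplex.exactAt_iff' _ 0 1 2 (by simp) (by simp),
      HomologicalComplex.exactAt_iff_isZero_homology]
    exact ((isSAcyclic_iff S T.X₁).1 h₁ 1 one_pos).of_iso (R.isoRightDerivedObj S 1).symm
  rw [epi_iff_surjective_up_to_refinements]
  intro A x
  obtain ⟨A₁, π₁, hπ₁, y, hy⟩ := h₂.exact_up_to_refinements (x ≫ S.map h') (by
    dsimp; rw [Category.assoc, ← S.map_comp, hh'', S.map_zero, comp_zero])
  dsimp at y hy
  let w : A₁ ⟶ S.obj (R.cocomplex.X 0 ⊞ T.X₃) := y ≫ S.map biprod.inl + (π₁ ≫ x) ≫ S.map biprod.inr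
  have hw : w ≫ (P.map S).g = 0 := by
    change w ≫ S.map (biprod.desc (R.cocomplex.d 0 1) (-h')) = 0
    simp only [w, Preadditive.add_comp, Category.assoc, ← S.map_comp, biprod.inl_desc,
      biprod.inr_desc, S.map_neg, Preadditive.comp_neg]
    rw [hy, add_neg_cancel]
  refine ⟨A₁, π₁, hπ₁, hS.lift w hw, ?_⟩
  have := hS.lift_f w hw
  have h3 : hS.lift w hw ≫ S.map (biprod.lift h T.g) ≫ S.map biprod.snd = w ≫ S.map biprod.snd :=
    (Category.assoc _ _ _).symm.trans (congrArg (· ≫ S.map biprod.snd) this)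
  refine Eq.trans ?_ (h3.symm.trans (congrArg (fun z => hS.lift w hw ≫ z)
    ((S.map_comp _ _).symm.trans (congrArg S.map (biprod.lift_snd h T.g)))))
  simp [w, ← S.map_comp]

end SpSeqLib
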