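import Groth.Agent.SpSeqLib.StupidFil
import Groth.Agent.SpSeqLib.FirstQuadrant

/-!
# The spectral sequence of a resolution, from page one
-/

universe w v v' u u'

set_option autoImplicit false
set_option linter.style.haveILetI false
set_option linter.unusedSectionVars false
set_option backward.isDefEq.respectTransparency false
set_option backward.isDefEq.respectTransparency.types false

open CategoryTheory CategoryTheory.Limits CategoryTheory.Pretriangulated ComposableArrows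
open CategoryTheory.Abelian.SpectralObject

namespace SpSeqLib.EOne

noncomputable section

set_option backward.defeqAttrib.useBackward true in
/-- The data giving a spectral sequence from page one out of a spectral object indexed by a decreasing
filtration. -/
@[simps!]
def core₁ : SpectralSequenceDataCore EInt (fun r ↦ ComplexShape.up' (⟨r, 1 - r⟩ : ℤ × ℤ)) 1 where
  deg pq := pq.1 + pq.2
  i₀ r pq hr := (-pq.1 - r + 1 :)
  i₁ pq := (-pq.1 :)
  i₂ pq := (-pq.1 + 1 :)
  i₃ r pq hr := (-pq.1 + r :)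
  le₀₁ r pq hr := by simp; lia
  le₁₂ pq := by simp
  le₂₃ r pq hr := by simp; lia
  hc := by rintro r pq _ rfl _; dsimp; lia
  hc₀₂ := by rintro r pq hr rfl _; simp; lia
  hc₁₃ := by rintro r pq hr rfl _; simp
  antitone_i₀ r r' pq hr hrr' := by simp; lia
  monotone_i₃ r r' pq hr hrr' := by simp; lia
  i₀_prev := by
    rintro r r' pq _ rfl hrr' _
    dsimp
    lia +mbtc
  i₃_next := by
    rintro r r' pq _ rfl hrr' _
    dsimp
    lia +mbtc

set_option backward.defeqAttrib.useBackward true in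
instance : core₁.HasFirstPageComputation where
  hi₀₁ pq := by dsimp; first | rfl | simp
  hi₂₃ pq := by dsimp

variable {D : Type u'} [Category.{v'} D] [Abelian D] (Y : Abelian.SpectralObject D EInt)

instance hasSpectralSequence_core₁ : Y.HasSpectralSequence core₁ where
  isZero_H_obj_mk₁_i₀_le r r' pq hpq n hn hrr' hr := by
    exfalso
    exact hpq _ rfl
  isZero_H_obj_mk₁_i₃_le r r' pq hpq n hn hrr' hr := by
    exfalso
    exact hpq (pq - (r, 1 - r)) (by simp)

/-- The spectral sequence. -/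
abbrev sseq : CohomologicalSpectralSequence D 1 := Y.spectralSequence core₁

/-- The vanishing which gives convergence. -/
class IsFirstQuadrant : Prop where
  isZero₁ (i j : EInt) (hij : i ≤ j) (n : ℤ) (hj : j ≤ ((-n : ℤ) : EInt)) :
    IsZero ((Y.H n).obj (mk₁ (homOfLE hij)))
  isZero₂ (i j : EInt) (hij : i ≤ j) (hi : ((1 : ℤ) : EInt) ≤ i) (n : ℤ) :
    IsZero ((Y.H n).obj (mk₁ (homOfLE hij)))

variable [IsFirstQuadrant Y]

lemma isZero_page_of_fst_neg (r : ℤ) (hr : 1 ≤ r) (p q : ℤ) (hp : p < 0) :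
    IsZero (((sseq Y).page r hr).X (p, q)) := by
  apply isZero_spectralSequence_page_X_of_isZero_H' _ _ _ hr
  exact IsFirstQuadrant.isZero₂ _ _ _ (WithBotTop.coe_le_coe.2 (by simp; lia)) _

lemma isZero_page_of_snd_neg (r : ℤ) (hr : 1 ≤ r) (p q : ℤ) (hq : q < 0) :
    IsZero (((sseq Y).page r hr).X (p, q)) := by
  apply isZero_spectralSequence_page_X_of_isZero_H' _ _ _ hr
  exact IsFirstQuadrant.isZero₁ _ _ _ _ (WithBotTop.coe_le_coe.2 (by simp; lia))

lemma isBounded : SpSeq.IsBounded (sseq Y) := by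
  intro n
  refine (Set.finite_Icc 0 n).subset fun p (hp : ¬ IsZero _) => ⟨?_, ?_⟩
  · by_contra h
    exact hp (isZero_page_of_fst_neg Y 1 le_rfl p _ (by lia))
  · by_contra h
    exact hp (isZero_page_of_snd_neg Y 1 le_rfl p _ (by lia))

lemma stationaryAt (pq : ℤ × ℤ) :
    SpSeq.StationaryAt (sseq Y) pq (stage pq) := by
  refine ⟨by have := two_le_stage pq; lia, fun r hr hr' => ?_⟩
  obtain ⟨p, q⟩ := pq
  have h₁ := le_abs_self p; have h₂ := le_abs_self q
  have h₃ := abs_nonneg p; have h₄ := abs_nonneg q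
  simp only [stage] at hr'
  exact ⟨(isZero_page_of_fst_neg Y r hr (p - r) (q - (1 - r)) (by lia)).eq_of_src _ _,
    (isZero_page_of_snd_neg Y r hr (p + r) (q + (1 - r)) (by lia)).eq_of_tgt _ _⟩

variable {H : ℤ → D} (e : ∀ n, H n ≅ total Y n)

/-- The filtration of the abutment. -/
def fil₁ (n p : ℤ) : Subobject (H n) := imageSubobject (toH Y e n ((-p + 1 : ℤ) : EInt))

lemma fil₁_anti (n : ℤ) : Antitone (fil₁ Y e n) := fun p q h =>
  imageSubobject_toH_mono Y e n _ _ (WithBotTop.coe_le_coe.2 (by lia))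

/-- The limit terms. -/
theorem nonempty_stage_iso_grPiece₁ (pq : ℤ × ℤ) :
    Nonempty (((sseq Y).page (stage pq) (by have := two_le_stage pq; lia)).X pq ≅
      SpSeq.grPiece (fil₁ Y e (pq.1 + pq.2)) (fil₁_anti Y e _) pq.1) := by
  obtain ⟨p, q⟩ := pq
  have h₁ := le_abs_self p; have h₂ := le_abs_self q
  have h₃ := abs_nonneg p; have h₄ := abs_nonneg q
  have h₅ := neg_le_abs p; have h₆ := neg_le_abs q
  let r := stage (p, q)
  have hr : r = |p| + |q| + 3 := rfl
  let a : EInt := ((-(p + 1) + 1 : ℤ) : EInt)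
  let b : EInt := ((-p + 1 : ℤ) : EInt)
  have hab : a ≤ b := WithBotTop.coe_le_coe.2 (by lia)
  let i₀ : EInt := ((-p - r + 1 : ℤ) : EInt)
  let i₃ : EInt := ((-p + r : ℤ) : EInt)
  have h₀₁ : i₀ ≤ a := WithBotTop.coe_le_coe.2 (by lia)
  have h₂₃ : b ≤ i₃ := WithBotTop.coe_le_coe.2 (by lia)
  obtain ⟨e⟩ := nonempty_E_iso_subquot Y e (p + q - 1) (p + q) (p + q + 1) (by lia) rfl a b hab
  refine ⟨Y.spectralSequencePageXIso core₁ r (by lia) (p, q) i₀ a b i₃
    rfl (by simp [a]) (by simp [b]) rfl (p + q - 1) (p + q) (p + q + 1) rfl (by lia) rfl ≪≫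
    (Y.isoMapFourδ₁Toδ₀' ⊥ i₀ a b i₃ bot_le h₀₁ hab h₂₃ _ _ _
      (IsFirstQuadrant.isZero₁ _ _ _ _ (WithBotTop.coe_le_coe.2 (by lia))) (by lia) rfl).symm ≪≫
    Y.isoMapFourδ₄Toδ₃' ⊥ a b i₃ ⊤ bot_le hab h₂₃ le_top _ _ _
      (IsFirstQuadrant.isZero₂ _ _ _ (WithBotTop.coe_le_coe.2 (by lia)) _) (by lia) rfl ≪≫ e⟩

/-- The abutment. -/
def abutment₁ : SpSeq.Abutment (sseq Y) H where
  fil := fil₁ Y e
  anti := fil₁_anti Y e
  rk := stage
  stat := stationaryAt Y
  β pq := (nonempty_stage_iso_grPiece₁ Y e pq).some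

lemma isFinite_abutment₁ (n : ℤ) : (abutment₁ Y e).IsFinite n := by
  refine ⟨⟨0, ?_⟩, ⟨n + 1, ?_⟩⟩
  · change imageSubobject (toH Y e n ((-0 + 1 : ℤ) : EInt)) = ⊤
    haveI : Epi (toTotal Y n ((-0 + 1 : ℤ) : EInt)) :=
      (Y.exact₂ _ _ _ rfl n).epi_f ((IsFirstQuadrant.isZero₂ _ _ le_top
        (WithBotTop.coe_le_coe.2 (by lia)) n).eq_of_tgt _ _)
    haveI : Epi (toH Y e n ((-0 + 1 : ℤ) : EInt)) := epi_comp _ _
    haveI : Epi (imageSubobject (toH Y e n ((-0 + 1 : ℤ) : EInt))).arrow :=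
      epi_of_epi_fac (imageSubobject_arrow_comp _)
    haveI := isIso_of_mono_of_epi (imageSubobject (toH Y e n ((-0 + 1 : ℤ) : EInt))).arrow
    exact Subobject.eq_top_of_isIso_arrow _
  · change imageSubobject (toH Y e n ((-(n + 1) + 1 : ℤ) : EInt)) = ⊥
    have : toH Y e n ((-(n + 1) + 1 : ℤ) : EInt) = 0 :=
      (IsFirstQuadrant.isZero₁ _ _ bot_le n (WithBotTop.coe_le_coe.2 (by lia))).eq_of_src _ _
    simp only [this]
    exact imageSubobject_zero

/-- The first page. -/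
def pageOneIso (p q : ℤ) :
    ((sseq Y).page 1 le_rfl).X (p, q) ≅
      (Y.H (p + q)).obj (mk₁ (homOfLE (show ((-p : ℤ) : EInt) ≤ ((-p + 1 : ℤ) : EInt) from
        WithBotTop.coe_le_coe.2 (by lia)))) :=
  Y.spectralSequenceFirstPageXIso core₁ (p, q) _ _ rfl rfl (p + q) rfl

section Resolution

omit [IsFirstQuadrant Y]
open StupidFil

variable {C : Type u} [Category.{v} C] [Abelian C] [EnoughInjectives C] [HasInjectiveResolutions C]
  [HasDerivedCategory.{w} C] (S : C ⥤ D) [S.Additive] (M : CochainComplex C ℤ) [M.IsStrictlyGE 0]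

lemma keep_coe (k n : ℤ) : Keep ((k : ℤ) : EInt) n ↔ 1 - n ≤ k := by
  rw [Keep, WithBotTop.coe_le_coe]; lia

instance isFirstQuadrant_obj : IsFirstQuadrant (StupidFil.obj M S) where
  isZero₁ i j hij n hj := by
    obtain ⟨e⟩ := nonempty_obj_iso M S hij n
    refine IsZero.of_iso ?_ e
    haveI : (seq M hij).X₃.IsStrictlyGE (n + 1) := by
      rw [CochainComplex.isStrictlyGE_iff]
      intro m hm
      refine isZero_quot_X_of_not_keep M hij m fun h => ?_
      have := WithBotTop.coe_le_coe.1 (le_trans h hj)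
      lia
    haveI : (qPlus (seq M hij).X₃ ⟨0, inferInstance⟩).IsGE (n + 1) := by
      rw [← DerivedCategory.Plus.isGE_ι_obj_iff]
      exact inferInstanceAs ((DerivedCategory.Q.obj (seq M hij).X₃).IsGE (n + 1))
    exact isZero_phiShift_of_isGE S _ (n + 1) n (by lia)
  isZero₂ i j hij hi n := by
    obtain ⟨e⟩ := nonempty_obj_iso M S hij n
    refine IsZero.of_iso ?_ e
    refine Functor.map_isZero _ ((IsZero.iff_id_eq_zero _).2 ?_)
    apply DerivedCategory.Plus.ι.map_injective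
    rw [CategoryTheory.Functor.map_id, Functor.map_zero]
    refine (DerivedCategory.Q.map_isZero ?_).eq_of_src _ _
    rw [IsZero.iff_id_eq_zero]
    ext m
    refine IsZero.eq_of_src ?_ _ _
    by_cases hm : 0 ≤ m
    · exact isZero_quot_X_of_keep M hij m (le_trans (WithBotTop.coe_le_coe.2 (by lia)) hi)
    · exact isZero_quot_X_of_isZero M hij m (M.isZero_of_isStrictlyGE 0 m (by lia))

/-- The quotient of two successive steps is one degree of the complex. -/
lemma nonempty_quot_iso_single (p : ℤ) :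
    Nonempty ((seq M (show ((-p : ℤ) : EInt) ≤ ((-p + 1 : ℤ) : EInt) from WithBotTop.coe_le_coe.2 (by lia))).X₃ ≅
      (HomologicalComplex.single C (ComplexShape.up ℤ) p).obj (M.X p)) := by
  let hij : ((-p : ℤ) : EInt) ≤ ((-p + 1 : ℤ) : EInt) := WithBotTop.coe_le_coe.2 (by lia)
  have hz : ∀ m, m ≠ p → IsZero ((seq M hij).X₃.X m) := by
    intro m hm
    rcases lt_or_gt_of_ne hm with h | h
    · exact isZero_quot_X_of_not_keep M hij m (by rw [keep_coe]; lia)
    · exact isZero_quot_X_of_keep M hij m (by rw [keep_coe]; lia)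
  obtain ⟨e⟩ := nonempty_quot_X_iso M hij p (by rw [keep_coe]; lia) (by rw [keep_coe]; lia)
  refine ⟨HomologicalComplex.Hom.isoOfComponents (fun m =>
    if h : m = p then (eqToIso (by rw [h]) ≪≫ e ≪≫
      (HomologicalComplex.singleObjXSelf (ComplexShape.up ℤ) p (M.X p)).symm ≪≫ eqToIso (by rw [h]))
    else (hz m h).iso (HomologicalComplex.isZero_single_obj_X _ _ _ _ h)) ?_⟩
  intro m m' hmm'
  by_cases h : m = p
  · exact (HomologicalComplex.isZero_single_obj_X (ComplexShape.up ℤ) p (M.X p) m' (by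
      simp at hmm'; lia)).eq_of_tgt _ _
  · exact (hz m h).eq_of_src _ _

/-- The shift of a single complex. -/
lemma nonempty_phiShift_single_iso (Z : C) (p q : ℤ) (h0 : 0 ≤ p) :
    Nonempty (((phi S).shift (p + q)).obj
        (qPlus ((HomologicalComplex.single C (ComplexShape.up ℤ) p).obj Z)
          ⟨p, inferInstanceAs (CochainComplex.IsStrictlyGE ((CochainComplex.singleFunctor C p).obj Z) p)⟩) ≅
      (phiSingle S q).obj Z) := by
  let e₁ : qPlus ((HomologicalComplex.single C (ComplexShape.up ℤ) p).obj Z)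
      ⟨p, inferInstanceAs (CochainComplex.IsStrictlyGE ((CochainComplex.singleFunctor C p).obj Z) p)⟩ ≅
      (DerivedCategory.Plus.singleFunctor C p).obj Z :=
    DerivedCategory.Plus.ι.preimageIso ((DerivedCategory.singleFunctorIsoCompQ C p).app Z).symm
  exact ⟨((phi S).shift (p + q)).mapIso e₁ ≪≫
    (((phi S).shiftIso p q (p + q) rfl).app _).symm ≪≫
    ((phi S).shift q).mapIso (((DerivedCategory.Plus.singleFunctors C).shiftIso p 0 p (add_zero p)).app Z)⟩

/-- **The spectral sequence of a resolution from page one.** -/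
theorem exists_spectralSequence_of_resolution (A : C) (K : CochainComplex C ℕ)
    (a : (CochainComplex.single₀ C).obj A ⟶ K) [QuasiIso a]
    (H : ℤ → D) (hH : ∀ n : ℕ, Nonempty (H n ≅ (S.rightDerived n).obj A)) (hH' : ∀ n : ℤ, n < 0 → IsZero (H n)) :
    ∃ (E : CohomologicalSpectralSequence D 1) (ab : SpSeq.Abutment E H),
      (∀ n, ab.IsFinite n) ∧ SpSeq.IsBounded E ∧
      (∀ p q : ℕ, Nonempty ((E.page 1 le_rfl).X ((p : ℤ), (q : ℤ)) ≅ (S.rightDerived q).obj (K.X p))) ∧
      ∀ p q : ℤ, p < 0 ∨ q < 0 → IsZero ((E.page 1 le_rfl).X (p, q)) := by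
  let N : CochainComplex C ℤ := K.extend ComplexShape.embeddingUpNat
  haveI : N.IsStrictlyGE 0 := by dsimp [N]; infer_instance
  let Y := StupidFil.obj N S
  let i : (CochainComplex.singleFunctor C 0).obj A ⟶ N :=
    (HomologicalComplex.extendSingleIso ComplexShape.embeddingUpNat A (i := 0) (i' := (0 : ℤ)) rfl).inv ≫
      HomologicalComplex.extendMap a ComplexShape.embeddingUpNat
  haveI : QuasiIso i := by dsimp only [i]; infer_instance
  have htot : ∀ n : ℤ, Nonempty (total Y n ≅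
      ((phi S).shift n).obj (qPlus ((CochainComplex.singleFunctor C 0).obj A) ⟨0, inferInstance⟩)) := by
    intro n
    obtain ⟨e⟩ := nonempty_obj_iso N S (bot_le : (⊥ : EInt) ≤ ⊤) n
    have hb : IsZero ((seq N (bot_le : (⊥ : EInt) ≤ ⊤)).X₁) := by
      rw [IsZero.iff_id_eq_zero]
      ext m
      exact (isZero_tX N (by simp [Keep])).eq_of_src _ _
    have hS := seq_shortExact N (bot_le : (⊥ : EInt) ≤ ⊤)
    haveI : IsIso (seq N (bot_le : (⊥ : EInt) ≤ ⊤)).g := hS.isIso_g_iff.2 hb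
    haveI : IsIso (tObjι N ⊤) := by
      haveI : ∀ m, IsIso ((tObjι N ⊤).f m) := fun m => isIso_tι N le_top
      exact HomologicalComplex.Hom.isIso_of_components _
    let g : (seq N (bot_le : (⊥ : EInt) ≤ ⊤)).X₃ ⟶ N :=
      (asIso (seq N (bot_le : (⊥ : EInt) ≤ ⊤)).g).inv ≫ tObjι N ⊤
    haveI : IsIso g := by dsimp only [g]; infer_instance
    exact ⟨e ≪≫ ((phi S).shift n).mapIso (qPlusIso (hL := ⟨0, inferInstance⟩) g ≪≫
      (qPlusIso (hK := ⟨0, inferInstance⟩) (hL := ⟨0, inferInstance⟩) i).symm)⟩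
  have e₁ : (DerivedCategory.Plus.singleFunctor C 0).obj A ≅
      qPlus ((CochainComplex.singleFunctor C 0).obj A) ⟨0, inferInstance⟩ :=
    DerivedCategory.Plus.ι.preimageIso ((DerivedCategory.singleFunctorIsoCompQ C 0).app A)
  have he : ∀ n : ℤ, Nonempty (H n ≅ total Y n) := by
    intro n
    obtain ⟨et⟩ := htot n
    by_cases hn : 0 ≤ n
    · obtain ⟨k, rfl⟩ := Int.eq_ofNat_of_zero_le hn
      obtain ⟨eh⟩ := hH k
      obtain ⟨es⟩ := nonempty_phiSingle_iso S A k
      exact ⟨eh ≪≫ es.symm ≪≫ ((phi S).shift (k : ℤ)).mapIso e₁ ≪≫ et.symm⟩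
    · haveI : (qPlus ((CochainComplex.singleFunctor C 0).obj A) ⟨0, inferInstance⟩).IsGE 0 := by
        rw [← DerivedCategory.Plus.isGE_ι_obj_iff]
        exact inferInstanceAs ((DerivedCategory.Q.obj ((CochainComplex.singleFunctor C 0).obj A)).IsGE 0)
      exact ⟨(hH' n (by lia)).iso ((isZero_phiShift_of_isGE S _ 0 n (by lia)).of_iso et)⟩
  refine ⟨sseq Y, abutment₁ Y fun n => (he n).some, isFinite_abutment₁ Y _, isBounded Y, fun p q => ?_,
    fun p q h => h.elim (isZero_page_of_fst_neg Y 1 le_rfl p q) (isZero_page_of_snd_neg Y 1 le_rfl p q)⟩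
  obtain ⟨e₂⟩ := nonempty_obj_iso N S (show ((-(p : ℤ) : ℤ) : EInt) ≤ ((-(p : ℤ) + 1 : ℤ) : EInt) from
    WithBotTop.coe_le_coe.2 (by lia)) ((p : ℤ) + q)
  obtain ⟨e₃⟩ := nonempty_quot_iso_single N (p : ℤ)
  obtain ⟨e₄⟩ := nonempty_phiShift_single_iso S (N.X p) (p : ℤ) (q : ℤ) (by lia)
  obtain ⟨e₅⟩ := nonempty_phiSingle_iso S (K.X p) q
  exact ⟨pageOneIso Y p q ≪≫ e₂ ≪≫
    ((phi S).shift ((p : ℤ) + q)).mapIso (qPlusIso e₃.hom) ≪≫ e₄ ≪≫
    (phiSingle S (q : ℤ)).mapIso (K.extendXIso ComplexShape.embeddingUpNat (i := p) rfl) ≪≫ e₅⟩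

end Resolution

end

end SpSeqLib.EOne
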