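import Mathlib.AlgebraicTopology.AlternatingFaceMapComplex
import Mathlib.Algebra.Homology.SingleHomology
import Mathlib.Algebra.Homology.Embedding.Extend
import Mathlib.Algebra.Homology.Embedding.ExtendHomology
import Mathlib.CategoryTheory.Abelian.Refinements
import Mathlib.Algebra.Homology.HomotopyCategory
import Mathlib.Algebra.Homology.QuasiIso

/-!
# Augmented cosimplicial objects and their contractions
-/

universe v u

set_option autoImplicit false
set_option linter.style.haveILetI false
set_option linter.unusedSectionVars false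
set_option backward.isDefEq.respectTransparency false
set_option backward.isDefEq.respectTransparency.types false

open CategoryTheory CategoryTheory.Limits

namespace SpSeqLib.CosimpAug

noncomputable section

variable {A : Type u} [Category.{v} A] [Abelian A] (c : CosimplicialObject A)

/-- The alternating complex. -/
abbrev co : CochainComplex A ℕ := (AlgebraicTopology.alternatingCofaceMapComplex A).obj c

/-- The alternating complex, indexed by integers. -/
abbrev ext : CochainComplex A ℤ := (co c).extend ComplexShape.embeddingUpNat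

/-- Functoriality. -/
abbrev extMap {c c' : CosimplicialObject A} (α : c ⟶ c') : ext c ⟶ ext c' :=
  HomologicalComplex.extendMap ((AlgebraicTopology.alternatingCofaceMapComplex A).map α) ComplexShape.embeddingUpNat

theorem co_d (n : ℕ) : (co c).d n (n + 1) = AlgebraicTopology.AlternatingCofaceMapComplex.objD c n :=
  CochainComplex.of_d (fun n => c.obj (SimplexCategory.mk n)) _ n

theorem co_d_zero : (co c).d 0 1 = c.δ (0 : Fin 2) - c.δ (1 : Fin 2) := by
  rw [co_d, AlgebraicTopology.AlternatingCofaceMapComplex.objD, Fin.sum_univ_two]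
  simp [sub_eq_add_neg]

variable {G : A} (g : G ⟶ c.obj (SimplexCategory.mk 0)) (hg : g ≫ c.δ (0 : Fin 2) = g ≫ c.δ (1 : Fin 2))

include hg in
theorem aug_d : g ≫ (co c).d 0 1 = 0 := by
  rw [co_d_zero]
  exact (Preadditive.comp_sub _ _ _).trans (sub_eq_zero.mpr hg)

/-- The augmentation. -/
def aug : (CochainComplex.single₀ A).obj G ⟶ co c :=
  (CochainComplex.fromSingle₀Equiv _ _).symm ⟨g, aug_d c g hg⟩

theorem aug_f_zero : (aug c g hg).f 0 = g := CochainComplex.fromSingle₀Equiv_symm_apply_f_zero _ _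

/-- The augmentation, indexed by integers. -/
def augZ : (HomologicalComplex.single A (ComplexShape.up ℤ) 0).obj G ⟶ ext c :=
  (HomologicalComplex.extendSingleIso ComplexShape.embeddingUpNat G (i := 0) (i' := (0 : ℤ)) rfl).inv ≫
    HomologicalComplex.extendMap (aug c g hg) ComplexShape.embeddingUpNat

theorem augZ_f_zero : (augZ c g hg).f 0 = (HomologicalComplex.singleObjXSelf (ComplexShape.up ℤ) 0 G).hom ≫ g ≫
    ((co c).extendXIso ComplexShape.embeddingUpNat (i := 0) (i' := (0 : ℤ)) rfl).inv := by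
  rw [augZ, HomologicalComplex.comp_f,
    HomologicalComplex.extendMap_f _ ComplexShape.embeddingUpNat (i := 0) (i' := (0 : ℤ)) rfl, aug_f_zero]
  simp [HomologicalComplex.extendSingleIso]

theorem augZ_map {c' : CosimplicialObject A} (α : c ⟶ c') (g' : G ⟶ c'.obj (SimplexCategory.mk 0))
    (hg' : g' ≫ c'.δ (0 : Fin 2) = g' ≫ c'.δ (1 : Fin 2)) (h : g ≫ α.app _ = g') :
    augZ c g hg ≫ extMap α = augZ c' g' hg' := by
  refine HomologicalComplex.from_single_hom_ext ?_
  rw [HomologicalComplex.comp_f, augZ_f_zero, augZ_f_zero,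
    HomologicalComplex.extendMap_f _ ComplexShape.embeddingUpNat (i := 0) (i' := (0 : ℤ)) rfl, ← h]
  simp only [Category.assoc, Iso.inv_hom_id_assoc]
  rfl

theorem single_map_augZ {G' : A} (v : G' ⟶ G) (g' : G' ⟶ c.obj (SimplexCategory.mk 0))
    (hg' : g' ≫ c.δ (0 : Fin 2) = g' ≫ c.δ (1 : Fin 2)) (h : v ≫ g = g') :
    (HomologicalComplex.single A (ComplexShape.up ℤ) 0).map v ≫ augZ c g hg = augZ c g' hg' := by
  refine HomologicalComplex.from_single_hom_ext ?_
  rw [HomologicalComplex.comp_f, augZ_f_zero, augZ_f_zero, HomologicalComplex.single_map_f_self, ← h]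
  simp

/-- A contraction. -/
structure Contr where
  /-- the retraction -/
  r : c.obj (SimplexCategory.mk 0) ⟶ G
  /-- the operators -/
  h : ∀ n : ℕ, c.obj (SimplexCategory.mk (n + 1)) ⟶ c.obj (SimplexCategory.mk n)
  g_r : g ≫ r = 𝟙 G
  δ_zero : ∀ n : ℕ, c.δ (0 : Fin (n + 2)) ≫ h n = 𝟙 _
  δ_one : c.δ (1 : Fin 2) ≫ h 0 = r ≫ g
  δ_succ : ∀ (n : ℕ) (i : Fin (n + 2)), c.δ i.succ ≫ h (n + 1) = h n ≫ c.δ i

variable {c g}

theorem Contr.d_h_zero (K : Contr c g) : (co c).d 0 1 ≫ K.h 0 = 𝟙 _ - K.r ≫ g := by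
  rw [co_d_zero]
  exact (Preadditive.sub_comp _ _ _).trans (congrArg₂ (· - ·) (K.δ_zero 0) K.δ_one)

theorem Contr.d_h (K : Contr c g) (n : ℕ) :
    (co c).d (n + 1) (n + 2) ≫ K.h (n + 1) = 𝟙 _ - K.h n ≫ (co c).d n (n + 1) := by
  rw [co_d c (n + 1), co_d c n, AlgebraicTopology.AlternatingCofaceMapComplex.objD,
    AlgebraicTopology.AlternatingCofaceMapComplex.objD, Preadditive.comp_sum, Preadditive.sum_comp,
    Fin.sum_univ_succ, sub_eq_add_neg, ← Finset.sum_neg_distrib]
  refine congrArg₂ (· + ·) ?_ (Finset.sum_congr rfl fun i _ => ?_)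
  · rw [Fin.val_zero, pow_zero, one_smul]
    exact K.δ_zero (n + 1)
  · rw [Fin.val_succ, pow_succ, mul_neg_one, neg_smul, Preadditive.neg_comp, Preadditive.zsmul_comp,
      Preadditive.comp_zsmul]
    exact congrArg (fun t => -((-1 : ℤ) ^ (i : ℕ) • t)) (K.δ_succ n i)

include hg in
theorem Contr.quasiIso_aug (K : Contr c g) : QuasiIso (aug c g hg) := by
  refine ⟨fun n => ?_⟩
  cases n with
  | zero =>
    rw [CochainComplex.quasiIsoAt₀_iff,
      ShortComplex.quasiIso_iff_of_zeros _ rfl rfl ((co c).shape 0 0 (Nat.succ_ne_zero 0))]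
    refine ⟨(ShortComplex.exact_iff_exact_up_to_refinements _).mpr fun T x hx => ⟨T, 𝟙 _, inferInstance,
      x ≫ K.r, ?_⟩, ?_⟩
    · refine (Category.id_comp _).trans (Eq.symm ?_)
      change (x ≫ K.r) ≫ (aug c g hg).f 0 = x
      change x ≫ (co c).d 0 1 = 0 at hx
      have := congrArg (x ≫ ·) K.d_h_zero
      simp only [Preadditive.comp_sub, reassoc_of% hx, zero_comp, Category.comp_id] at this
      rw [aug_f_zero, Category.assoc]
      exact (sub_eq_zero.mp this.symm).symm.trans (Category.comp_id _)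
    · show Mono ((aug c g hg).f 0)
      rw [aug_f_zero]
      exact (SplitMono.mk K.r K.g_r).mono
  | succ n =>
    rw [quasiIsoAt_iff_exactAt _ _ (CochainComplex.exactAt_succ_single_obj G n),
      HomologicalComplex.exactAt_iff' _ n (n + 1) (n + 2) (by simp) (by simp)]
    refine (ShortComplex.exact_iff_exact_up_to_refinements _).mpr fun T x hx =>
      ⟨T, 𝟙 _, inferInstance, x ≫ K.h n, ?_⟩
    refine (Category.id_comp _).trans (Eq.symm ?_)
    change (x ≫ K.h n) ≫ (co c).d n (n + 1) = x
    change x ≫ (co c).d (n + 1) (n + 2) = 0 at hx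
    have := congrArg (x ≫ ·) (K.d_h n)
    simp only [Preadditive.comp_sub, reassoc_of% hx, zero_comp, Category.comp_id] at this
    rw [Category.assoc]
    exact (sub_eq_zero.mp this.symm).symm.trans (Category.comp_id _)

theorem Contr.quasiIso_augZ (K : Contr c g) : QuasiIso (augZ c g hg) := by
  haveI := K.quasiIso_aug hg
  dsimp only [augZ]
  infer_instance

theorem Contr.mono_augZ (K : Contr c g) : Mono (augZ c g hg) := by
  haveI : ∀ m, Mono ((augZ c g hg).f m) := fun m => by
    by_cases hm : m = 0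
    · subst hm
      haveI : Mono g := (SplitMono.mk K.r K.g_r).mono
      rw [augZ_f_zero]
      infer_instance
    · exact ⟨fun _ _ _ => (HomologicalComplex.isZero_single_obj_X _ _ _ _ hm).eq_of_tgt _ _⟩
  exact HomologicalComplex.mono_of_mono_f _ inferInstance

end

end SpSeqLib.CosimpAug
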