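import Mathlib.Algebra.Homology.Embedding.Extend
import Mathlib.Algebra.Homology.Embedding.ExtendHomology
import Mathlib.Algebra.Homology.QuasiIso
import Mathlib.Algebra.Homology.ShortComplex.PreservesHomology
import Mathlib.Algebra.Homology.HomotopyCategory

/-!
# Extension by zero of cochain complexes and additive functors
-/

universe v v' u u'

set_option autoImplicit false
set_option linter.style.haveILetI false
set_option linter.unusedSectionVars false
set_option backward.isDefEq.respectTransparency false
set_option backward.isDefEq.respectTransparency.types false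

open CategoryTheory CategoryTheory.Limits

namespace SpSeqLib.MapExt

noncomputable section

variable {C : Type u} [Category.{v} C] [Abelian C] {D : Type u'} [Category.{v'} D] [Abelian D]
  (S : C ⥤ D) [S.Additive]

/-- The terms. -/
def mapExtXIso (K : CochainComplex C ℕ) : ∀ i : ℤ,
    S.obj ((K.extend ComplexShape.embeddingUpNat).X i) ≅
      (((S.mapHomologicalComplex _).obj K).extend ComplexShape.embeddingUpNat).X i
  | Int.ofNat n => S.mapIso (K.extendXIso ComplexShape.embeddingUpNat (i := n) (i' := Int.ofNat n) rfl) ≪≫
      (((S.mapHomologicalComplex _).obj K).extendXIso ComplexShape.embeddingUpNat (i := n) (i' := Int.ofNat n) rfl).symm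
  | Int.negSucc m => (S.map_isZero (K.isZero_extend_X ComplexShape.embeddingUpNat _ fun k hk => by
        change (k : ℤ) = Int.negSucc m at hk
        omega)).iso
      (HomologicalComplex.isZero_extend_X _ ComplexShape.embeddingUpNat _ fun k hk => by
        change (k : ℤ) = Int.negSucc m at hk
        omega)

/-- Extension commutes with additive functors. -/
def mapExtIso (K : CochainComplex C ℕ) :
    (S.mapHomologicalComplex _).obj (K.extend ComplexShape.embeddingUpNat) ≅
      ((S.mapHomologicalComplex _).obj K).extend ComplexShape.embeddingUpNat :=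
  HomologicalComplex.Hom.isoOfComponents (mapExtXIso S K) fun i j hij => by
    cases i with
    | ofNat n =>
      obtain rfl : Int.ofNat (n + 1) = j := hij
      rw [Functor.mapHomologicalComplex_obj_d,
        K.extend_d_eq ComplexShape.embeddingUpNat (i := n) (j := n + 1) (i' := Int.ofNat n)
          (j' := Int.ofNat (n + 1)) rfl rfl,
        HomologicalComplex.extend_d_eq _ ComplexShape.embeddingUpNat (i := n) (j := n + 1) (i' := Int.ofNat n)
          (j' := Int.ofNat (n + 1)) rfl rfl]
      simp only [mapExtXIso, S.map_comp, Iso.trans_hom, Iso.symm_hom, Functor.mapIso_hom, Category.assoc,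
        Functor.mapHomologicalComplex_obj_d, Iso.inv_hom_id_assoc]
      rw [← S.map_comp_assoc _ (K.extendXIso ComplexShape.embeddingUpNat _).hom, Iso.inv_hom_id, S.map_id,
        Category.id_comp]
    | negSucc m =>
      exact (S.map_isZero (K.isZero_extend_X ComplexShape.embeddingUpNat _ fun k hk => by
        change (k : ℤ) = Int.negSucc m at hk
        omega)).eq_of_src _ _

theorem mapExtIso_naturality {K L : CochainComplex C ℕ} (φ : K ⟶ L) :
    (S.mapHomologicalComplex _).map (HomologicalComplex.extendMap φ ComplexShape.embeddingUpNat) ≫
        (mapExtIso S L).hom =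
      (mapExtIso S K).hom ≫
        HomologicalComplex.extendMap ((S.mapHomologicalComplex _).map φ) ComplexShape.embeddingUpNat := by
  refine HomologicalComplex.hom_ext _ _ fun i => ?_
  cases i with
  | ofNat n =>
    rw [HomologicalComplex.comp_f, HomologicalComplex.comp_f, Functor.mapHomologicalComplex_map_f,
      HomologicalComplex.extendMap_f _ ComplexShape.embeddingUpNat (i := n) (i' := Int.ofNat n) rfl,
      HomologicalComplex.extendMap_f _ ComplexShape.embeddingUpNat (i := n) (i' := Int.ofNat n) rfl]
    simp only [mapExtIso, HomologicalComplex.Hom.isoOfComponents_hom_f, mapExtXIso, Iso.trans_hom, Iso.symm_hom,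
      Functor.mapIso_hom, S.map_comp, Category.assoc, Functor.mapHomologicalComplex_map_f, Iso.inv_hom_id_assoc]
    rw [← S.map_comp_assoc _ (L.extendXIso ComplexShape.embeddingUpNat _).hom, Iso.inv_hom_id, S.map_id,
      Category.id_comp]
  | negSucc m =>
    exact (S.map_isZero (K.isZero_extend_X ComplexShape.embeddingUpNat _ fun k hk => by
      change (k : ℤ) = Int.negSucc m at hk
      omega)).eq_of_src _ _

theorem quasiIso_map_extendMap_iff {K L : CochainComplex C ℕ} (φ : K ⟶ L) :
    QuasiIso ((S.mapHomologicalComplex _).map (HomologicalComplex.extendMap φ ComplexShape.embeddingUpNat)) ↔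
      QuasiIso ((S.mapHomologicalComplex _).map φ) := by
  rw [← HomologicalComplex.quasiIso_extendMap_iff ((S.mapHomologicalComplex _).map φ) ComplexShape.embeddingUpNat]
  exact quasiIso_iff_of_arrow_mk_iso _ _
    (Arrow.isoMk (mapExtIso S K) (mapExtIso S L) (mapExtIso_naturality S φ).symm)

theorem isIso_map_homologyMap_of_quasiIso [S.PreservesHomology] {ι : Type*} {c : ComplexShape ι}
    {K L : HomologicalComplex C c} (f : K ⟶ L) [QuasiIso ((S.mapHomologicalComplex c).map f)] (n : ι) :
    IsIso (S.map (HomologicalComplex.homologyMap f n)) := by
  have h := ShortComplex.mapHomologyIso_hom_naturality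
    ((HomologicalComplex.shortComplexFunctor C c n).map f) S
  haveI : IsIso (ShortComplex.homologyMap (S.mapShortComplex.map ((HomologicalComplex.shortComplexFunctor C c n).map f))) :=
    inferInstanceAs (IsIso (HomologicalComplex.homologyMap ((S.mapHomologicalComplex c).map f) n))
  have e := (Iso.eq_inv_comp ((K.sc n).mapHomologyIso S)).mpr h.symm
  rw [show S.map (HomologicalComplex.homologyMap f n) = _ from e]
  infer_instance

end

end SpSeqLib.MapExt
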