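import Mathlib.Algebra.Homology.TotalComplex
import Mathlib.Algebra.Homology.TotalComplexSymmetry
import Mathlib.Algebra.Homology.HomologicalComplexAbelian
import Mathlib.Algebra.Homology.Embedding.Basic
import Mathlib.CategoryTheory.Abelian.GrothendieckAxioms.Basic
import Mathlib.CategoryTheory.Abelian.FunctorCategory
import Mathlib.Algebra.Homology.ShortComplex.PreservesHomology
import Mathlib.Algebra.Homology.ShortComplex.ShortExact
import Mathlib.CategoryTheory.Preadditive.AdditiveFunctor
import Mathlib.Algebra.Homology.Single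
import Mathlib.Algebra.Homology.HomotopyCategory.Shift

/-!
# Total complexes of bicomplexes: exactness, single columns
-/

universe v u

set_option autoImplicit false
set_option linter.style.haveILetI false
set_option linter.unusedSectionVars false
set_option backward.isDefEq.respectTransparency false
set_option backward.isDefEq.respectTransparency.types false

open CategoryTheory CategoryTheory.Limits

namespace SpSeqLib.BiTotal

noncomputable section

variable {C : Type u} [Category.{v} C] [Abelian C]

/-- Bicomplexes. -/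
abbrev Bi (C : Type u) [Category.{v} C] [Abelian C] := CochainComplex (CochainComplex C ℤ) ℤ

/-- The places contributing to degree `n`. -/
abbrev Pl (n : ℤ) : Type :=
  {x : ℤ × ℤ // ComplexShape.π (ComplexShape.up ℤ) (ComplexShape.up ℤ) (ComplexShape.up ℤ) x = n}

variable [HasCoproducts.{0} C]

instance hasTotal (K : Bi C) : HomologicalComplex₂.HasTotal K (ComplexShape.up ℤ) := fun _ => inferInstance

/-- The total complex. -/
def tot : Bi C ⥤ CochainComplex C ℤ where
  obj K := HomologicalComplex₂.total K (ComplexShape.up ℤ)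
  map φ := HomologicalComplex₂.total.map φ (ComplexShape.up ℤ)
  map_id K := HomologicalComplex₂.total.map_id K _
  map_comp φ ψ := HomologicalComplex₂.total.map_comp φ ψ _

lemma ι_tot_map {K L : Bi C} (φ : K ⟶ L) (p q n : ℤ)
    (h : ComplexShape.π (ComplexShape.up ℤ) (ComplexShape.up ℤ) (ComplexShape.up ℤ) (p, q) = n) :
    HomologicalComplex₂.ιTotal K (ComplexShape.up ℤ) p q n h ≫ (tot.map φ).f n =
      (φ.f p).f q ≫ HomologicalComplex₂.ιTotal L (ComplexShape.up ℤ) p q n h :=
  HomologicalComplex₂.ιTotal_map (K := K) (L := L) φ _ p q n h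

instance additive_tot : (tot (C := C)).Additive where
  map_add {K L f g} := by
    ext n : 1
    refine HomologicalComplex₂.total.hom_ext _ fun p q h => ?_
    rw [HomologicalComplex.add_f_apply, Preadditive.comp_add, ι_tot_map, ι_tot_map, ι_tot_map,
      HomologicalComplex.add_f_apply, HomologicalComplex.add_f_apply, Preadditive.add_comp]

/-- The terms contributing to a degree. -/
def places (n : ℤ) : Bi C ⥤ (Discrete (Pl n) ⥤ C) where
  obj K := Discrete.functor fun x => (K.X x.1.1).X x.1.2
  map φ := Discrete.natTrans fun x => (φ.f x.as.1.1).f x.as.1.2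
  map_id _ := rfl
  map_comp _ _ := rfl

instance additive_places (n : ℤ) : (places (C := C) n).Additive where

/-- Degree `n` of the total complex. -/
def totDegIso (n : ℤ) : tot ⋙ HomologicalComplex.eval C (ComplexShape.up ℤ) n ≅ places n ⋙ colim :=
  NatIso.ofComponents (fun K => IsColimit.coconePointUniqueUpToIso
      (coproductIsCoproduct _) (colimit.isColimit ((places n).obj K)))
    (fun {K L} φ => by
      refine Sigma.hom_ext (f := fun x : Pl n => (K.X x.1.1).X x.1.2) _ _ fun x => ?_
      have e : ∀ (K : Bi C), HomologicalComplex₂.ιTotal K (ComplexShape.up ℤ) x.1.1 x.1.2 n x.2 ≫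
          (IsColimit.coconePointUniqueUpToIso (coproductIsCoproduct (fun x : Pl n => (K.X x.1.1).X x.1.2))
            (colimit.isColimit ((places n).obj K))).hom = colimit.ι ((places n).obj K) ⟨x⟩ := fun K =>
        IsColimit.comp_coconePointUniqueUpToIso_hom (coproductIsCoproduct _) (colimit.isColimit _) ⟨x⟩
      change HomologicalComplex₂.ιTotal K (ComplexShape.up ℤ) x.1.1 x.1.2 n x.2 ≫ (tot.map φ).f n ≫ _ =
        HomologicalComplex₂.ιTotal K (ComplexShape.up ℤ) x.1.1 x.1.2 n x.2 ≫ _ ≫ colim.map ((places n).map φ)
      refine ((Category.assoc _ _ _).symm.trans (congrArg (· ≫ _) (ι_tot_map φ x.1.1 x.1.2 n x.2))).trans ?_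
      refine ((Category.assoc _ _ _).trans (congrArg ((φ.f x.1.1).f x.1.2 ≫ ·) (e L))).trans ?_
      refine Eq.trans ?_ ((Category.assoc _ _ _).trans rfl)
      refine Eq.trans ?_ (congrArg (· ≫ colim.map ((places n).map φ)) (e K)).symm
      exact (colimit.ι_map ((places n).map φ) ⟨x⟩).symm)

variable [AB4OfSize.{0} C]

/-- Totalisation preserves short exact sequences. -/
theorem shortExact_map_tot {S : ShortComplex (Bi C)} (hS : S.ShortExact) : (S.map tot).ShortExact := by
  refine HomologicalComplex.shortExact_of_degreewise_shortExact _ fun n => ?_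
  have hp : ∀ x : Discrete (Pl n), (S.map (places n ⋙ (evaluation _ C).obj x)).ShortExact := fun x =>
    ((hS.map_of_exact (HomologicalComplex.eval (CochainComplex C ℤ) (ComplexShape.up ℤ) x.as.1.1)).map_of_exact
      (HomologicalComplex.eval C (ComplexShape.up ℤ) x.as.1.2) :)
  have h1 : (S.map (places n)).ShortExact :=
    { exact := by
        rw [ShortComplex.exact_iff_isZero_homology, Functor.isZero_iff]
        intro x
        refine IsZero.of_iso ?_ ((S.map (places n)).mapHomologyIso ((evaluation _ C).obj x)).symm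
        exact (ShortComplex.exact_iff_isZero_homology _).mp (hp x).exact
      mono_f := haveI : ∀ x, Mono ((S.map (places n)).f.app x) := fun x => (hp x).mono_f
                NatTrans.mono_of_mono_app _
      epi_g := haveI : ∀ x, Epi ((S.map (places n)).g.app x) := fun x => (hp x).epi_g
               NatTrans.epi_of_epi_app _ }
  exact ShortComplex.shortExact_of_iso (S.mapNatIso (totDegIso n)).symm (h1.map_of_exact colim)

omit [AB4OfSize.{0} C] in
lemma isZero_tot_X (K : Bi C) (n : ℤ) (h : ∀ p q : ℤ, p + q = n → IsZero ((K.X p).X q)) :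
    IsZero ((tot.obj K).X n) := by
  rw [IsZero.iff_id_eq_zero]
  refine HomologicalComplex₂.total.hom_ext _ fun p q hpq => ?_
  exact (h p q hpq).eq_of_src _ _

omit [AB4OfSize.{0} C] in
/-- The total complex of a single column. -/
theorem nonempty_tot_single_iso (p : ℤ) (L : CochainComplex C ℤ) :
    Nonempty (tot.obj ((HomologicalComplex.single (CochainComplex C ℤ) (ComplexShape.up ℤ) p).obj L) ≅ L⟦-p⟧) := by
  let K := (HomologicalComplex.single (CochainComplex C ℤ) (ComplexShape.up ℤ) p).obj L
  have hz : ∀ p', p' ≠ p → ∀ q, IsZero ((K.X p').X q) := fun p' hp' q =>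
    (HomologicalComplex.eval C _ q).map_isZero (HomologicalComplex.isZero_single_obj_X _ p L p' hp')
  let c : ∀ q, (K.X p).X q ≅ L.X q := fun q =>
    (HomologicalComplex.eval C _ q).mapIso (HomologicalComplex.singleObjXSelf (ComplexShape.up ℤ) p L)
  have hπ : ∀ n : ℤ, ComplexShape.π (ComplexShape.up ℤ) (ComplexShape.up ℤ) (ComplexShape.up ℤ) (p, n + -p) = n :=
    fun n => show p + (n + -p) = n by lia
  let e : ∀ n, (HomologicalComplex₂.total K (ComplexShape.up ℤ)).X n ≅ L.X (n + -p) := fun n =>
    { hom := HomologicalComplex₂.totalDesc K fun p' q hpq =>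
        if h : p' = p then eqToHom (by rw [h]) ≫ (c q).hom ≫ eqToHom (congrArg L.X (by
          have : p' + q = n := hpq
          lia)) else 0
      inv := (c (n + -p)).inv ≫ HomologicalComplex₂.ιTotal K (ComplexShape.up ℤ) p (n + -p) n (hπ n)
      hom_inv_id := by
        refine HomologicalComplex₂.total.hom_ext _ fun p' q hpq => ?_
        rw [HomologicalComplex₂.ι_totalDesc_assoc]
        by_cases h : p' = p
        · subst h
          obtain rfl : q = n + -p' := by
            have : p' + q = n := hpq
            lia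
          simp only [↓reduceDIte, eqToHom_refl, Category.id_comp, Category.comp_id, Category.assoc,
            Iso.hom_inv_id_assoc]
        · exact (hz p' h q).eq_of_src _ _
      inv_hom_id := by
        rw [Category.assoc, HomologicalComplex₂.ι_totalDesc, dif_pos rfl]
        simp }
  change Nonempty (HomologicalComplex₂.total K (ComplexShape.up ℤ) ≅ L⟦-p⟧)
  refine ⟨(HomologicalComplex.Hom.isoOfComponents (fun n => (L.shiftFunctorObjXIso (-p) n (n + -p) rfl) ≪≫ (e n).symm)
    fun n m hnm => ?_).symm⟩
  obtain rfl : n + 1 = m := hnm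
  have hd1 : K.d p (p + 1) = 0 :=
    (HomologicalComplex.isZero_single_obj_X (ComplexShape.up ℤ) p L (p + 1) (by simp)).eq_of_tgt _ _
  have hq : (ComplexShape.up ℤ).Rel (n + -p) (n + 1 + -p) := show n + -p + 1 = n + 1 + -p by lia
  have key : ((c (n + -p)).inv ≫ HomologicalComplex₂.ιTotal K (ComplexShape.up ℤ) p (n + -p) n (hπ n)) ≫
        (HomologicalComplex₂.total K (ComplexShape.up ℤ)).d n (n + 1) =
      p.negOnePow • (L.d (n + -p) (n + 1 + -p) ≫ (c (n + 1 + -p)).inv ≫
        HomologicalComplex₂.ιTotal K (ComplexShape.up ℤ) p (n + 1 + -p) (n + 1) (hπ (n + 1))) := by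
    rw [HomologicalComplex₂.total_d, Category.assoc, Preadditive.comp_add, Preadditive.comp_add,
      HomologicalComplex₂.ι_D₁, HomologicalComplex₂.ι_D₂,
      HomologicalComplex₂.d₁_eq' K (ComplexShape.up ℤ) (show (ComplexShape.up ℤ).Rel p (p + 1) from rfl),
      HomologicalComplex₂.d₂_eq K (ComplexShape.up ℤ) p hq (n + 1) (hπ (n + 1)), hd1]
    simp only [HomologicalComplex.zero_f, zero_comp, smul_zero, comp_zero, zero_add, Linear.comp_units_smul,
      ComplexShape.ε₂_def]
    congr 1
    rw [← Category.assoc, ← Category.assoc]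
    congr 1
    exact (HomologicalComplex.singleObjXSelf (ComplexShape.up ℤ) p L).inv.comm (n + -p) (n + 1 + -p)
  change ((L.shiftFunctorObjXIso (-p) n (n + -p) rfl).hom ≫ (e n).inv) ≫
      (HomologicalComplex₂.total K (ComplexShape.up ℤ)).d n (n + 1) =
    (L⟦-p⟧).d n (n + 1) ≫ (L.shiftFunctorObjXIso (-p) (n + 1) (n + 1 + -p) rfl).hom ≫ (e (n + 1)).inv
  refine (Category.assoc _ _ _).trans ((congrArg (_ ≫ ·) key).trans ?_)
  simp [CochainComplex.shiftFunctorObjXIso, CochainComplex.shiftFunctor_obj_d', HomologicalComplex.XIsoOfEq,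
    Linear.units_smul_comp, Linear.comp_units_smul, Int.negOnePow_neg, e]
  exact Category.id_comp _

end

end SpSeqLib.BiTotal
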