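import Groth.Agent.SpSeqLib.EOne
import Groth.Agent.SpSeqLib.BiTotal

/-!
# The spectral sequence of a bicomplex resolution, from page one
-/

universe w v v' u u'

set_option autoImplicit false
set_option linter.style.haveILetI false
set_option linter.unusedSectionVars false
set_option backward.isDefEq.respectTransparency false
set_option backward.isDefEq.respectTransparency.types false

open CategoryTheory CategoryTheory.Limits CategoryTheory.Pretriangulated ComposableArrows

namespace SpSeqLib.BiSS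

noncomputable section

open StupidFil BiTotal

variable {C : Type u} [Category.{v} C] [Abelian C]

section Plus

variable [HasDerivedCategory.{w} C] (X : Triangulated.SpectralObject (DerivedCategory C) EInt)
  (hX : ∀ a, DerivedCategory.TStructure.t.plus (X.ω₁.obj a))

/-- The values in `D⁺`. -/
def ω₁Lift : ComposableArrows EInt 1 ⥤ DerivedCategory.Plus C := ObjectProperty.lift _ X.ω₁ hX

/-- A spectral object with bounded below values lives in `D⁺`. -/
def liftPlus : Triangulated.SpectralObject (DerivedCategory.Plus C) EInt where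
  ω₁ := ω₁Lift X hX
  δ' :=
    { app := fun a => DerivedCategory.Plus.ι.preimage (X.δ'.app a ≫
        (DerivedCategory.Plus.ι.commShiftIso (1 : ℤ)).inv.app
          ((functorArrows EInt 0 1 2 ⋙ ω₁Lift X hX).obj a))
      naturality := fun a a' φ => by
        apply DerivedCategory.Plus.ι.map_injective
        rw [Functor.map_comp, Functor.map_comp, Functor.map_preimage, Functor.map_preimage]
        refine (X.δ'.naturality_assoc φ _).trans ?_
        refine (congrArg (X.δ'.app a ≫ ·)
          ((DerivedCategory.Plus.ι.commShiftIso (1 : ℤ)).inv.naturality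
            ((functorArrows EInt 0 1 2 ⋙ ω₁Lift X hX).map φ))).trans ?_
        exact (Category.assoc _ _ _).symm }
  distinguished' a := by
    rw [← DerivedCategory.Plus.ι.map_distinguished_iff]
    refine isomorphic_distinguished _ (X.distinguished' a) _
      (Triangle.isoMk _ _ (Iso.refl _) (Iso.refl _) (Iso.refl _) ?_ ?_ ?_)
    · exact (Category.comp_id _).trans (Category.id_comp _).symm
    · exact (Category.comp_id _).trans (Category.id_comp _).symm
    · refine ((congrArg (_ ≫ ·) (CategoryTheory.Functor.map_id _ _)).trans (Category.comp_id _)).trans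
        (Eq.trans ?_ (Category.id_comp _).symm)
      exact map_preimage_comp DerivedCategory.Plus.ι
        (X := (functorArrows EInt 1 2 2 ⋙ ω₁Lift X hX).obj a)
        (Y := ((functorArrows EInt 0 1 2 ⋙ ω₁Lift X hX).obj a)⟦(1 : ℤ)⟧) (X.δ'.app a)
        ((DerivedCategory.Plus.ι.commShiftIso (1 : ℤ)).app ((functorArrows EInt 0 1 2 ⋙ ω₁Lift X hX).obj a))

end Plus

variable [HasCoproducts.{0} C] [AB4OfSize.{0} C] (M : Bi C)

omit [AB4OfSize.{0} C] in
lemma isStrictlyGE_tot (N : Bi C) (m : ℤ) (h : ∀ p q : ℤ, p + q < m → IsZero ((N.X p).X q)) :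
    (tot.obj N).IsStrictlyGE m := by
  rw [CochainComplex.isStrictlyGE_iff]
  exact fun k hk => isZero_tot_X N k fun p q hpq => h p q (by lia)

lemma shortExact_tot_seq {i j : EInt} (hij : i ≤ j) : ((seq M hij).map tot).ShortExact :=
  shortExact_map_tot (seq_shortExact M hij)

omit [HasCoproducts.{0} C] [AB4OfSize.{0} C] in
lemma isZero_tX_X (i : EInt) (p q : ℤ) (h : IsZero ((M.X p).X q)) : IsZero ((tX M i p).X q) := by
  by_cases hk : Keep i p
  · rw [tX_eq M hk]; exact h
  · exact (HomologicalComplex.eval C _ q).map_isZero (isZero_tX M hk)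

omit [HasCoproducts.{0} C] [AB4OfSize.{0} C] in
lemma isZero_quot_XX {i j : EInt} (hij : i ≤ j) (p q : ℤ) (h : IsZero ((M.X p).X q)) :
    IsZero (((seq M hij).X₃.X p).X q) := by
  have := ((seq_shortExact_eval M hij p).map_of_exact (HomologicalComplex.eval C (ComplexShape.up ℤ) q)).epi_g
  exact IsZero.of_epi (((seq M hij).g.f p).f q) (isZero_tX_X M j p q h)

variable (hM : ∀ p q : ℤ, p < 0 ∨ q < 0 → IsZero ((M.X p).X q))

include hM

lemma isStrictlyGE_tot_quot {i j : EInt} (hij : i ≤ j) (m : ℤ) (h : ∀ p, Keep j p → m ≤ p ∨ m ≤ 0) :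
    (tot.obj (seq M hij).X₃).IsStrictlyGE m := by
  refine isStrictlyGE_tot _ m fun p q hpq => ?_
  by_cases hk : Keep j p
  · refine isZero_quot_XX M hij p q (hM p q ?_)
    rcases h p hk with h | h <;> lia
  · exact (HomologicalComplex.eval C _ q).map_isZero (isZero_quot_X_of_not_keep M hij p hk)

omit hM [HasCoproducts.{0} C] [AB4OfSize.{0} C] in
/-- A step with one new degree. -/
theorem nonempty_step_iso_single {i j : EInt} (hij : i ≤ j) (p : ℤ) (hi : ¬ Keep i p) (hj : Keep j p)
    (hne : ∀ m, m ≠ p → ¬ Keep j m ∨ Keep i m) :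
    Nonempty ((seq M hij).X₃ ≅ (HomologicalComplex.single (CochainComplex C ℤ) (ComplexShape.up ℤ) p).obj (M.X p)) := by
  have hz : ∀ m, m ≠ p → IsZero ((seq M hij).X₃.X m) := fun m hm =>
    (hne m hm).elim (isZero_quot_X_of_not_keep M hij m) (isZero_quot_X_of_keep M hij m)
  obtain ⟨e⟩ := nonempty_quot_X_iso M hij p hi hj
  exact ⟨HomologicalComplex.Hom.isoOfComponents (fun m =>
    if h : m = p then (eqToIso (by rw [h]) ≪≫ e ≪≫
      (HomologicalComplex.singleObjXSelf (ComplexShape.up ℤ) p (M.X p)).symm ≪≫ eqToIso (by rw [h]))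
    else (hz m h).iso (HomologicalComplex.isZero_single_obj_X _ _ _ _ h)) (fun m m' hmm' => by
    by_cases h : m = p
    · exact (HomologicalComplex.isZero_single_obj_X (ComplexShape.up ℤ) p (M.X p) m' (by
        simp at hmm'; omega)).eq_of_tgt _ _
    · exact (hz m h).eq_of_src _ _)⟩

/-- A first quadrant bicomplex with acyclic columns has an acyclic total complex. -/
theorem acyclic_tot (hcol : ∀ p, (M.X p).Acyclic) : (tot.obj M).Acyclic := by
  intro n
  rw [HomologicalComplex.exactAt_iff_isZero_homology]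
  have hstep : ∀ k : ℕ, IsZero ((tot.obj (tObj M ((-n - 1 + k : ℤ) : EInt))).homology n) := by
    intro k
    induction k with
    | zero =>
      refine ShortComplex.isZero_homology_of_isZero_X₂ _ (isZero_tot_X _ n fun p q hpq => ?_)
      by_cases hk : Keep ((-n - 1 + (0 : ℕ) : ℤ) : EInt) p
      · refine isZero_tX_X M _ p q (hM p q (Or.inr ?_))
        rw [EOne.keep_coe] at hk
        lia
      · exact (HomologicalComplex.eval C _ q).map_isZero (isZero_tX M hk)
    | succ k ih =>
      let hij : ((-n - 1 + k : ℤ) : EInt) ≤ ((-n - 1 + (k + 1 : ℕ) : ℤ) : EInt) := WithBotTop.coe_le_coe.2 (by lia)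
      have hS := shortExact_tot_seq M hij
      refine (hS.homology_exact₂ n).isZero_of_both_zeros (ih.eq_of_src _ _) (IsZero.eq_of_tgt ?_ _ _)
      let p : ℤ := -(-n - 1 + k)
      have hi : ¬ Keep ((-n - 1 + k : ℤ) : EInt) p := by rw [EOne.keep_coe]; simp only [p]; omega
      have hj : Keep ((-n - 1 + (k + 1 : ℕ) : ℤ) : EInt) p := by rw [EOne.keep_coe]; simp only [p]; omega
      obtain ⟨e'⟩ := nonempty_step_iso_single M hij p hi hj (fun m hm => by
        rw [EOne.keep_coe, EOne.keep_coe]; simp only [p] at hm; omega)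
      obtain ⟨f⟩ := nonempty_tot_single_iso p (M.X p)
      refine IsZero.of_iso ?_ ((HomologicalComplex.homologyFunctor C (ComplexShape.up ℤ) n).mapIso
        (tot.mapIso e' ≪≫ f) ≪≫
        ((HomologicalComplex.homologyFunctor C (ComplexShape.up ℤ) 0).shiftIso (-p) n (-p + n) rfl).app (M.X p))
      exact ((M.X p).exactAt_iff_isZero_homology _).1 (hcol p _)
  rcases lt_or_ge (n + 2) 0 with hn | hn
  · exact ShortComplex.isZero_homology_of_isZero_X₂ _ (isZero_tot_X _ n fun p q hpq => hM p q (by lia))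
  · obtain ⟨k, hk⟩ := Int.eq_ofNat_of_zero_le hn
    have : IsIso (tObjι M ((-n - 1 + k : ℤ) : EInt)) := by
      haveI : ∀ p, IsIso ((tObjι M ((-n - 1 + k : ℤ) : EInt)).f p) := fun p => by
        by_cases hp : 0 ≤ p
        · exact isIso_tι M (by rw [EOne.keep_coe]; lia)
        · have hz : IsZero (M.X p) := by
            rw [IsZero.iff_id_eq_zero]
            ext q
            exact (hM p q (Or.inl (by lia))).eq_of_src _ _
          exact ⟨⟨0, (IsZero.of_mono (tι M _ p) hz).eq_of_src _ _, hz.eq_of_src _ _⟩⟩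
      exact HomologicalComplex.Hom.isIso_of_components _
    exact (hstep k).of_iso ((HomologicalComplex.homologyFunctor C (ComplexShape.up ℤ) n).mapIso
      (tot.mapIso (asIso (tObjι M ((-n - 1 + k : ℤ) : EInt))))).symm

variable [HasDerivedCategory.{w} C]

omit hM in
/-- The filtered total complex, as a spectral object. -/
abbrev objD : Triangulated.SpectralObject (DerivedCategory C) EInt :=
  ((HomotopyCategory.spectralObjectMappingCone C).precomp (StupidFil.fil M ⋙ tot)).mapTriangulatedFunctor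
    DerivedCategory.Qh

omit hM in
lemma nonempty_objD_iso {i j : EInt} (hij : i ≤ j) :
    Nonempty ((objD M).ω₁.obj (mk₁ (homOfLE hij)) ≅ DerivedCategory.Q.obj (tot.obj (seq M hij).X₃)) := by
  haveI := CochainComplex.mappingCone.quasiIso_descShortComplex (shortExact_tot_seq M hij)
  exact ⟨(DerivedCategory.quotientCompQhIso C).app _ ≪≫
    @asIso (DerivedCategory C) _ _ _ (DerivedCategory.Q.map
        (CochainComplex.mappingCone.descShortComplex ((seq M hij).map tot)))
      ((DerivedCategory.isIso_Q_map_iff_quasiIso _ _).2 inferInstance)⟩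

lemma plus_objD (a : ComposableArrows EInt 1) : DerivedCategory.TStructure.t.plus ((objD M).ω₁.obj a) := by
  obtain ⟨i, j, f, rfl⟩ := ComposableArrows.mk₁_surjective a
  obtain ⟨e⟩ := nonempty_objD_iso M (leOfHom f)
  haveI := isStrictlyGE_tot_quot M hM (leOfHom f) 0 fun _ _ => Or.inr le_rfl
  exact ⟨0, DerivedCategory.TStructure.t.isGE_of_iso e.symm 0⟩

variable [EnoughInjectives C] [HasInjectiveResolutions C] {D : Type u'} [Category.{v'} D] [Abelian D]
  (S : C ⥤ D) [S.Additive]

/-- The abelian spectral object. -/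
def obj : Abelian.SpectralObject D EInt := mapHomological (liftPlus (objD M) (plus_objD M hM)) (phi S)

lemma plus_tot_quot {i j : EInt} (hij : i ≤ j) : CochainComplex.plus C (tot.obj (seq M hij).X₃) :=
  ⟨0, isStrictlyGE_tot_quot M hM hij 0 fun _ _ => Or.inr le_rfl⟩

lemma nonempty_obj_iso {i j : EInt} (hij : i ≤ j) (n : ℤ) :
    Nonempty (((obj M hM S).H n).obj (mk₁ (homOfLE hij)) ≅
      ((phi S).shift n).obj (qPlus (tot.obj (seq M hij).X₃) (plus_tot_quot M hM hij))) := by
  obtain ⟨e⟩ := nonempty_objD_iso M hij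
  exact ⟨((phi S).shift n).mapIso (DerivedCategory.Plus.ι.preimageIso e)⟩

instance isFirstQuadrant_obj : EOne.IsFirstQuadrant (obj M hM S) where
  isZero₁ i j hij n hj := by
    obtain ⟨e⟩ := nonempty_obj_iso M hM S hij n
    refine IsZero.of_iso ?_ e
    haveI := isStrictlyGE_tot_quot M hM hij (n + 1) fun p hp => Or.inl (by
      have := WithBotTop.coe_le_coe.1 (le_trans hp hj)
      lia)
    haveI : (qPlus (tot.obj (seq M hij).X₃) (plus_tot_quot M hM hij)).IsGE (n + 1) := by
      rw [← DerivedCategory.Plus.isGE_ι_obj_iff]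
      exact inferInstanceAs ((DerivedCategory.Q.obj (tot.obj (seq M hij).X₃)).IsGE (n + 1))
    exact isZero_phiShift_of_isGE S _ (n + 1) n (by lia)
  isZero₂ i j hij hi n := by
    obtain ⟨e⟩ := nonempty_obj_iso M hM S hij n
    refine IsZero.of_iso ?_ e
    refine Functor.map_isZero _ ((IsZero.iff_id_eq_zero _).2 ?_)
    apply DerivedCategory.Plus.ι.map_injective
    rw [CategoryTheory.Functor.map_id, Functor.map_zero]
    refine (DerivedCategory.Q.map_isZero ?_).eq_of_src _ _
    rw [IsZero.iff_id_eq_zero]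
    ext m : 1
    refine IsZero.eq_of_src (isZero_tot_X _ m fun p q _ => ?_) _ _
    by_cases hp : 0 ≤ p
    · exact (HomologicalComplex.eval C _ q).map_isZero
        (isZero_quot_X_of_keep M hij p (le_trans (WithBotTop.coe_le_coe.2 (by lia)) hi))
    · exact isZero_quot_XX M hij p q (hM p q (Or.inl (by lia)))

end

section Main

variable {C : Type u} [Category.{v} C] [Abelian C] [HasCoproducts.{0} C] [AB4OfSize.{0} C]
  [EnoughInjectives C] [HasInjectiveResolutions C] [HasDerivedCategory.{w} C]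
  {D : Type u'} [Category.{v'} D] [Abelian D] (S : C ⥤ D) [S.Additive]

open StupidFil BiTotal

omit [EnoughInjectives C] [HasInjectiveResolutions C] [HasDerivedCategory.{w} C] in
/-- An augmentation which resolves every row resolves the total complex. -/
theorem quasiIso_tot_of_row (M : Bi C) (hM : ∀ p q : ℤ, p < 0 ∨ q < 0 → IsZero ((M.X p).X q))
    (G : CochainComplex C ℤ)
    (ε : (HomologicalComplex.single (CochainComplex C ℤ) (ComplexShape.up ℤ) 0).obj G ⟶ M) [Mono ε]
    (hrow : ∀ q : ℤ, QuasiIso (((HomologicalComplex.eval C (ComplexShape.up ℤ) q).mapHomologicalComplex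
      (ComplexShape.up ℤ)).map ε)) :
    QuasiIso (tot.map ε) := by
  let Sq : ShortComplex (Bi C) := ShortComplex.mk ε (cokernel.π ε) (cokernel.condition ε)
  have hSq : Sq.ShortExact :=
    { exact := ShortComplex.exact_of_g_is_cokernel _ (cokernelIsCokernel _)
      mono_f := inferInstanceAs (Mono ε)
      epi_g := inferInstanceAs (Epi (cokernel.π ε)) }
  have hrow' : ∀ q, (((HomologicalComplex.eval C (ComplexShape.up ℤ) q).mapHomologicalComplex
      (ComplexShape.up ℤ)).obj Sq.X₃).Acyclic := fun q m => by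
    have hs := hSq.map_of_exact ((HomologicalComplex.eval C (ComplexShape.up ℤ) q).mapHomologicalComplex
      (ComplexShape.up ℤ))
    have hf : ∀ k, IsIso (HomologicalComplex.homologyMap
        (((HomologicalComplex.eval C (ComplexShape.up ℤ) q).mapHomologicalComplex (ComplexShape.up ℤ)).map ε) k) :=
      fun k => haveI := hrow q; inferInstance
    rw [HomologicalComplex.exactAt_iff_isZero_homology]
    refine (hs.homology_exact₃ m (m + 1) rfl).isZero_of_both_zeros ?_ ?_
    · haveI := hf m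
      refine (cancel_epi (HomologicalComplex.homologyMap (((HomologicalComplex.eval C (ComplexShape.up ℤ) q).mapHomologicalComplex
        (ComplexShape.up ℤ)).map ε) m)).1 (Eq.trans ?_ comp_zero.symm)
      exact (HomologicalComplex.homologyMap_comp _ _ m).symm.trans
        ((congrArg (fun t => HomologicalComplex.homologyMap t m) (Sq.map ((HomologicalComplex.eval C
          (ComplexShape.up ℤ) q).mapHomologicalComplex (ComplexShape.up ℤ))).zero).trans (HomologicalComplex.homologyMap_zero _ _ m))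
    · haveI := hf (m + 1)
      exact (cancel_mono (HomologicalComplex.homologyMap (((HomologicalComplex.eval C (ComplexShape.up ℤ) q).mapHomologicalComplex
        (ComplexShape.up ℤ)).map ε) (m + 1))).1 ((hs.δ_comp m (m + 1) rfl).trans zero_comp.symm)
  have hQ0 : ∀ p q : ℤ, p < 0 ∨ q < 0 → IsZero ((Sq.X₃.X p).X q) := fun p q h => by
    have := ((hSq.map_of_exact (HomologicalComplex.eval (CochainComplex C ℤ) (ComplexShape.up ℤ) p)).map_of_exact
      (HomologicalComplex.eval C (ComplexShape.up ℤ) q)).epi_g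
    exact IsZero.of_epi ((Sq.g.f p).f q) (hM p q h)
  have hQ : (tot.obj Sq.X₃).Acyclic := by
    have h := acyclic_tot (HomologicalComplex₂.flip Sq.X₃) (fun p q h => hQ0 q p h.symm) hrow'
    intro m
    exact HomologicalComplex.exactAt_iff_isZero_homology _ _ |>.2
      ((((tot.obj _).exactAt_iff_isZero_homology m).1 (h m)).of_iso
        ((HomologicalComplex.homologyFunctor C (ComplexShape.up ℤ) m).mapIso
          (HomologicalComplex₂.totalFlipIso Sq.X₃ (ComplexShape.up ℤ))).symm)
  refine ⟨fun m => ?_⟩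
  rw [quasiIsoAt_iff_isIso_homologyMap]
  have hT := shortExact_map_tot hSq
  have hz : ∀ k, IsZero ((tot.obj Sq.X₃).homology k) := fun k =>
    ((tot.obj Sq.X₃).exactAt_iff_isZero_homology k).1 (hQ k)
  haveI : Mono (HomologicalComplex.homologyMap (tot.map ε) m) :=
    (hT.homology_exact₁ (m - 1) m (by simp)).mono_g ((hz (m - 1)).eq_of_src _ _)
  haveI : Epi (HomologicalComplex.homologyMap (tot.map ε) m) :=
    (hT.homology_exact₂ m).epi_f ((hz m).eq_of_tgt _ _)
  exact isIso_of_mono_of_epi _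

/-- **The spectral sequence of a bicomplex whose total complex resolves an object.** -/
theorem exists_spectralSequence_of_tot (M : Bi C)
    (hM : ∀ p q : ℤ, p < 0 ∨ q < 0 → IsZero ((M.X p).X q))
    (A : C) (i : (CochainComplex.singleFunctor C 0).obj A ⟶ tot.obj M) [QuasiIso i]
    (H : ℤ → D) (hH : ∀ n : ℕ, Nonempty (H n ≅ (S.rightDerived n).obj A)) (hH' : ∀ n : ℤ, n < 0 → IsZero (H n)) :
    ∃ (E : CohomologicalSpectralSequence D 1) (ab : SpSeq.Abutment E H),
      (∀ n, ab.IsFinite n) ∧ SpSeq.IsBounded E ∧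
      (∀ p : ℕ, ∃ hp : CochainComplex.plus C (M.X p), ∀ q : ℕ,
        Nonempty ((E.page 1 le_rfl).X ((p : ℤ), (q : ℤ)) ≅ ((phi S).shift (q : ℤ)).obj (qPlus (M.X p) hp))) ∧
      ∀ p q : ℤ, p < 0 ∨ q < 0 → IsZero ((E.page 1 le_rfl).X (p, q)) := by
  have harith₁ : ∀ (p : ℕ) (k : ℤ), k < 0 → k + -(p : ℤ) < 0 := fun p k h => by omega
  have harith₂ : ∀ p q : ℕ, -(p : ℤ) + ((p : ℤ) + q) = q := fun p q => by omega
  let Y := BiSS.obj M hM S
  haveI hMGE : (tot.obj M).IsStrictlyGE 0 := isStrictlyGE_tot M 0 fun p q hpq => hM p q (by lia)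
  have htot : ∀ n : ℤ, Nonempty (total Y n ≅
      ((phi S).shift n).obj (qPlus ((CochainComplex.singleFunctor C 0).obj A) ⟨0, inferInstance⟩)) := by
    intro n
    obtain ⟨e⟩ := nonempty_obj_iso M hM S (bot_le : (⊥ : EInt) ≤ ⊤) n
    have hb : IsZero ((seq M (bot_le : (⊥ : EInt) ≤ ⊤)).X₁) := by
      rw [IsZero.iff_id_eq_zero]
      ext m : 1
      exact (isZero_tX M (by simp [Keep])).eq_of_src _ _
    have hS := seq_shortExact M (bot_le : (⊥ : EInt) ≤ ⊤)
    haveI : IsIso (seq M (bot_le : (⊥ : EInt) ≤ ⊤)).g := hS.isIso_g_iff.2 hb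
    haveI : IsIso (tObjι M ⊤) := by
      haveI : ∀ m, IsIso ((tObjι M ⊤).f m) := fun m => isIso_tι M le_top
      exact HomologicalComplex.Hom.isIso_of_components _
    let g : (seq M (bot_le : (⊥ : EInt) ≤ ⊤)).X₃ ⟶ M :=
      (asIso (seq M (bot_le : (⊥ : EInt) ≤ ⊤)).g).inv ≫ tObjι M ⊤
    haveI : IsIso g := by dsimp only [g]; infer_instance
    haveI : QuasiIso (tot.map g) := inferInstance
    exact ⟨e ≪≫ ((phi S).shift n).mapIso (qPlusIso (hL := ⟨0, inferInstance⟩) (tot.map g) ≪≫
      (qPlusIso (hK := ⟨0, inferInstance⟩) (hL := ⟨0, inferInstance⟩) i).symm)⟩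
  have e₁ : (DerivedCategory.Plus.singleFunctor C 0).obj A ≅
      qPlus ((CochainComplex.singleFunctor C 0).obj A) ⟨0, inferInstance⟩ :=
    DerivedCategory.Plus.ι.preimageIso ((DerivedCategory.singleFunctorIsoCompQ C 0).app A)
  have he : ∀ n : ℤ, Nonempty (H n ≅ total Y n) := by
    intro n
    obtain ⟨et⟩ := htot n
    by_cases hn : 0 ≤ n
    · obtain ⟨k, rfl⟩ := Int.eq_ofNat_of_zero_le hn
      obtain ⟨eh⟩ := hH k
      obtain ⟨es⟩ := nonempty_phiSingle_iso S A k
      exact ⟨eh ≪≫ es.symm ≪≫ ((phi S).shift (k : ℤ)).mapIso e₁ ≪≫ et.symm⟩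
    · haveI : (qPlus ((CochainComplex.singleFunctor C 0).obj A) ⟨0, inferInstance⟩).IsGE 0 := by
        rw [← DerivedCategory.Plus.isGE_ι_obj_iff]
        exact inferInstanceAs ((DerivedCategory.Q.obj ((CochainComplex.singleFunctor C 0).obj A)).IsGE 0)
      exact ⟨(hH' n (by omega)).iso ((isZero_phiShift_of_isGE S _ 0 n (by omega)).of_iso et)⟩
  refine ⟨EOne.sseq Y, EOne.abutment₁ Y fun n => (he n).some, EOne.isFinite_abutment₁ Y _, EOne.isBounded Y, fun p => ?_,
    fun p q h => h.elim (EOne.isZero_page_of_fst_neg Y 1 le_rfl p q) (EOne.isZero_page_of_snd_neg Y 1 le_rfl p q)⟩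
  haveI hp : (M.X (p : ℤ)).IsStrictlyGE 0 := by
    rw [CochainComplex.isStrictlyGE_iff]
    exact fun k hk => hM p k (Or.inr hk)
  refine ⟨⟨0, hp⟩, fun q => ?_⟩
  let hij : ((-(p : ℤ) : ℤ) : EInt) ≤ ((-(p : ℤ) + 1 : ℤ) : EInt) := WithBotTop.coe_le_coe.2 (by omega)
  obtain ⟨e₂⟩ := nonempty_obj_iso M hM S hij ((p : ℤ) + q)
  obtain ⟨e₃⟩ := nonempty_step_iso_single M hij (p : ℤ) (by rw [EOne.keep_coe]; omega)
    (by rw [EOne.keep_coe]; omega) (fun m hm => by rw [EOne.keep_coe, EOne.keep_coe]; omega)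
  obtain ⟨e₄⟩ := nonempty_tot_single_iso (p : ℤ) (M.X (p : ℤ))
  haveI : ((M.X (p : ℤ))⟦-(p : ℤ)⟧).IsStrictlyGE 0 := by
    rw [CochainComplex.isStrictlyGE_iff]
    exact fun k hk => (hM p (k + -(p : ℤ)) (Or.inr (harith₁ p k hk))).of_iso
      ((M.X (p : ℤ)).shiftFunctorObjXIso (-(p : ℤ)) k (k + -(p : ℤ)) rfl)
  let e₅ : qPlus ((M.X (p : ℤ))⟦-(p : ℤ)⟧) ⟨0, inferInstance⟩ ≅ (qPlus (M.X (p : ℤ)) ⟨0, hp⟩)⟦-(p : ℤ)⟧ :=
    DerivedCategory.Plus.ι.preimageIso ((DerivedCategory.Q.commShiftIso (-(p : ℤ))).app (M.X (p : ℤ)) ≪≫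
      ((DerivedCategory.Plus.ι.commShiftIso (-(p : ℤ))).app (qPlus (M.X (p : ℤ)) ⟨0, hp⟩)).symm)
  exact ⟨EOne.pageOneIso Y p q ≪≫ e₂ ≪≫ ((phi S).shift ((p : ℤ) + q)).mapIso
      (qPlusIso (hL := ⟨0, inferInstance⟩) ((tot.mapIso e₃ ≪≫ e₄).hom) ≪≫ e₅) ≪≫
    ((phi S).shiftIso (-(p : ℤ)) ((p : ℤ) + q) (q : ℤ) (harith₂ p q)).app _⟩


/-- **The spectral sequence of a bicomplex resolution from page one.** -/
theorem exists_spectralSequence_of_bicomplex (M : Bi C)
    (hM : ∀ p q : ℤ, p < 0 ∨ q < 0 → IsZero ((M.X p).X q))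
    (A : C) (G : CochainComplex C ℤ) [G.IsStrictlyGE 0] (a : (CochainComplex.singleFunctor C 0).obj A ⟶ G) [QuasiIso a]
    (ε : (HomologicalComplex.single (CochainComplex C ℤ) (ComplexShape.up ℤ) 0).obj G ⟶ M) [Mono ε]
    (hrow : ∀ q : ℤ, QuasiIso (((HomologicalComplex.eval C (ComplexShape.up ℤ) q).mapHomologicalComplex
      (ComplexShape.up ℤ)).map ε))
    (H : ℤ → D) (hH : ∀ n : ℕ, Nonempty (H n ≅ (S.rightDerived n).obj A)) (hH' : ∀ n : ℤ, n < 0 → IsZero (H n)) :
    ∃ (E : CohomologicalSpectralSequence D 1) (ab : SpSeq.Abutment E H),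
      (∀ n, ab.IsFinite n) ∧ SpSeq.IsBounded E ∧
      (∀ p : ℕ, ∃ hp : CochainComplex.plus C (M.X p), ∀ q : ℕ,
        Nonempty ((E.page 1 le_rfl).X ((p : ℤ), (q : ℤ)) ≅ ((phi S).shift (q : ℤ)).obj (qPlus (M.X p) hp))) ∧
      ∀ p q : ℤ, p < 0 ∨ q < 0 → IsZero ((E.page 1 le_rfl).X (p, q)) := by
  haveI := quasiIso_tot_of_row M hM G ε hrow
  obtain ⟨eZ⟩ := nonempty_tot_single_iso 0 G
  let eG := eZ ≪≫ (shiftFunctorZero' (CochainComplex C ℤ) (-0) neg_zero).app G
  let i : (CochainComplex.singleFunctor C 0).obj A ⟶ tot.obj M := a ≫ eG.inv ≫ tot.map ε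
  haveI : QuasiIso i := by dsimp only [i]; infer_instance
  exact exists_spectralSequence_of_tot S M hM A i H hH hH'

end Main

end SpSeqLib.BiSS
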