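import Groth.Agent.SpSeqLib.AcyclicComplex

/-!
# Derived functors of a composition with an exact functor
-/

universe v v' v'' u u' u''

set_option linter.style.haveILetI false
set_option linter.unusedSectionVars false

open CategoryTheory CategoryTheory.Limits
open scoped ZeroObject

namespace SpSeqLib

variable {C : Type u} [Category.{v} C] [Abelian C] [EnoughInjectives C] [HasInjectiveResolutions C]
  {D : Type u'} [Category.{v'} D] [Abelian D] (S : C ⥤ D) [S.Additive] [PreservesFiniteLimits S]
  {A₀ : Type u''} [Category.{v''} A₀] [Abelian A₀] [HasInjectiveResolutions A₀]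
  (G : A₀ ⥤ C) [G.Additive] [G.PreservesHomology]

/-- The derived functors of a composition with an exact functor preserving acyclicity. -/
theorem nonempty_rightDerived_comp_iso
    (hG : ∀ Q : A₀, Injective Q → ∀ q : ℕ, 0 < q → IsZero ((S.rightDerived q).obj (G.obj Q)))
    (A : A₀) (n : ℕ) :
    Nonempty (((G ⋙ S).rightDerived n).obj A ≅ (S.rightDerived n).obj (G.obj A)) := by
  letI := HasDerivedCategory.standard C
  let R : InjectiveResolution A := injectiveResolution A
  let K : CochainComplex A₀ ℤ := (CochainComplex.singleFunctor A₀ 0).obj A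
  let L : CochainComplex A₀ ℤ := R.cochainComplex
  haveI : CochainComplex.IsStrictlyGE ((G.mapHomologicalComplex (ComplexShape.up ℤ)).obj L) 0 := by
    dsimp [L]; infer_instance
  haveI : CochainComplex.IsStrictlyGE ((G.mapHomologicalComplex (ComplexShape.up ℤ)).obj K) 0 := by
    dsimp [K]; infer_instance
  haveI : QuasiIso ((G.mapHomologicalComplex (ComplexShape.up ℤ)).map R.ι') :=
    inferInstance
  have hL : ∀ m, IsSAcyclic S (((G.mapHomologicalComplex (ComplexShape.up ℤ)).obj L).X m) := by
    intro m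
    by_cases hm : 0 ≤ m
    · obtain ⟨k, rfl⟩ := Int.eq_ofNat_of_zero_le hm
      intro q hq
      exact ((isSAcyclic_iff S (G.obj (R.cocomplex.X k))).2 (hG _ (R.injective k)) q hq).of_iso
        (Functor.mapIso _ (G.mapIso (R.cochainComplexXIso (k : ℤ) k rfl)))
    · exact isSAcyclic_of_isZero S
        (G.map_isZero (CochainComplex.isZero_of_isStrictlyGE R.cochainComplex 0 m (by lia)))
  obtain ⟨e₁⟩ := nonempty_phiShiftQPlus_iso S ((G.mapHomologicalComplex (ComplexShape.up ℤ)).obj L) 0 hL n
  obtain ⟨e₂⟩ := nonempty_phiSingle_iso S (G.obj A) n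
  let e₃ : (DerivedCategory.Plus.singleFunctor C 0).obj (G.obj A) ≅
      qPlus ((CochainComplex.singleFunctor C 0).obj (G.obj A)) ⟨0, inferInstance⟩ :=
    DerivedCategory.Plus.ι.preimageIso ((DerivedCategory.singleFunctorIsoCompQ C 0).app (G.obj A))
  let i : (CochainComplex.singleFunctor C 0).obj (G.obj A) ≅
      (G.mapHomologicalComplex (ComplexShape.up ℤ)).obj K :=
    ((HomologicalComplex.singleMapHomologicalComplex G (ComplexShape.up ℤ) 0).app A).symm
  haveI : QuasiIso i.hom := inferInstance
  let e₄ : ((G ⋙ S).rightDerived n).obj A ≅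
      ((S.mapHomologicalComplex _).obj ((G.mapHomologicalComplex (ComplexShape.up ℤ)).obj L)).homology n :=
    R.isoRightDerivedObj (G ⋙ S) n ≪≫
      (HomologicalComplex.extendHomologyIso (((G ⋙ S).mapHomologicalComplex _).obj R.cocomplex)
        ComplexShape.embeddingUpNat (j := n) (j' := (n : ℤ)) rfl).symm ≪≫
      (HomologicalComplex.homologyMapIso (mapExtendNatIso (G ⋙ S) R.cocomplex) (n : ℤ)).symm
  exact ⟨e₄ ≪≫ e₁.symm ≪≫ ((phi S).shift (n : ℤ)).mapIso ((qPlusIso (hK := ⟨0, inferInstance⟩) (hL := ⟨0, inferInstance⟩) i.hom ≪≫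
    qPlusIso ((G.mapHomologicalComplex (ComplexShape.up ℤ)).map R.ι')).symm ≪≫ e₃.symm) ≪≫ e₂⟩

end SpSeqLib
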