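import Groth.Agent.SpSeqLib.BiSS
import Mathlib.CategoryTheory.Preadditive.Biproducts

/-!
# Total complexes and column-wise quasi-isomorphisms, after an exact functor
-/

universe v v' u u'

set_option autoImplicit false
set_option linter.style.haveILetI false
set_option linter.unusedSectionVars false
set_option backward.isDefEq.respectTransparency false
set_option backward.isDefEq.respectTransparency.types false

open CategoryTheory CategoryTheory.Limits CategoryTheory.Pretriangulated ComposableArrows

namespace SpSeqLib.TotQI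

noncomputable section

open StupidFil BiTotal BiSS

variable {C : Type u} [Category.{v} C] [Abelian C]
  {D : Type u'} [Category.{v'} D] [Abelian D] (T : C ⥤ D) [T.Additive] [T.PreservesHomology]

section Short

variable {S : ShortComplex (CochainComplex C ℤ)} (hS : S.ShortExact)

include hS

theorem isZero_map_homology_X₃ (h : ∀ k, IsIso (T.map (HomologicalComplex.homologyMap S.f k))) (m : ℤ) :
    IsZero (T.obj (S.X₃.homology m)) := by
  refine ((hS.homology_exact₃ m (m + 1) rfl).map T).isZero_of_both_zeros ?_ ?_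
  · haveI := h m
    refine (cancel_epi (T.map (HomologicalComplex.homologyMap S.f m))).1 (Eq.trans ?_ comp_zero.symm)
    refine (T.map_comp _ _).symm.trans ((congrArg T.map ?_).trans (T.map_zero _ _))
    exact (HomologicalComplex.homologyMap_comp _ _ m).symm.trans
      ((congrArg (fun t => HomologicalComplex.homologyMap t m) S.zero).trans (HomologicalComplex.homologyMap_zero _ _ m))
  · haveI := h (m + 1)
    exact (cancel_mono (T.map (HomologicalComplex.homologyMap S.f (m + 1)))).1
      ((T.map_comp _ _).symm.trans ((congrArg T.map (hS.δ_comp m (m + 1) rfl)).trans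
        ((T.map_zero _ _).trans zero_comp.symm)))

theorem isIso_map_homologyMap (h : ∀ k, IsZero (T.obj (S.X₃.homology k))) (m : ℤ) :
    IsIso (T.map (HomologicalComplex.homologyMap S.f m)) := by
  haveI : Mono (T.map (HomologicalComplex.homologyMap S.f m)) :=
    ((hS.homology_exact₁ (m - 1) m (by simp)).map T).mono_g ((h (m - 1)).eq_of_src _ _)
  haveI : Epi (T.map (HomologicalComplex.homologyMap S.f m)) :=
    ((hS.homology_exact₂ m).map T).epi_f ((h m).eq_of_tgt _ _)
  exact isIso_of_mono_of_epi _

end Short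

/-- A projection off a killed summand. -/
theorem isIso_map_fst {A : Type*} [Category* A] [Preadditive A] [HasBinaryBiproducts A] (G : A ⥤ D) [G.Additive]
    (P Q : A) (h : IsZero (G.obj Q)) : IsIso (G.map (biprod.fst : P ⊞ Q ⟶ P)) := by
  refine ⟨G.map biprod.inl, ?_, ?_⟩
  · have e : G.map (biprod.fst ≫ biprod.inl : P ⊞ Q ⟶ P ⊞ Q) + G.map (biprod.snd ≫ biprod.inr) = 𝟙 _ := by
      rw [← G.map_add, biprod.total, CategoryTheory.Functor.map_id]
    rw [G.map_comp biprod.snd biprod.inr, h.eq_of_src (G.map biprod.inr) 0, comp_zero, add_zero] at e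
    exact (G.map_comp _ _).symm.trans e
  · rw [← G.map_comp, biprod.inl_fst, CategoryTheory.Functor.map_id]

variable [HasCoproducts.{0} C] [AB4OfSize.{0} C]

/-- Columns without homology give a total complex without homology. -/
theorem isZero_map_homology_tot (M : Bi C) (c : ℤ) (hM : ∀ p q : ℤ, p < 0 ∨ q < c → IsZero ((M.X p).X q))
    (hcol : ∀ p k : ℤ, IsZero (T.obj ((M.X p).homology k))) (n : ℤ) : IsZero (T.obj ((tot.obj M).homology n)) := by
  have hstep : ∀ k : ℕ, IsZero (T.obj ((tot.obj (tObj M ((-n - 1 + c + k : ℤ) : EInt))).homology n)) := by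
    intro k
    induction k with
    | zero =>
      refine T.map_isZero (ShortComplex.isZero_homology_of_isZero_X₂ _ (isZero_tot_X _ n fun p q hpq => ?_))
      by_cases hk : Keep ((-n - 1 + c + (0 : ℕ) : ℤ) : EInt) p
      · refine isZero_tX_X M _ p q (hM p q (Or.inr ?_))
        rw [EOne.keep_coe] at hk
        lia
      · exact (HomologicalComplex.eval C _ q).map_isZero (isZero_tX M hk)
    | succ k ih =>
      let hij : ((-n - 1 + c + k : ℤ) : EInt) ≤ ((-n - 1 + c + (k + 1 : ℕ) : ℤ) : EInt) :=
        WithBotTop.coe_le_coe.2 (by lia)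
      have hS := shortExact_tot_seq M hij
      refine ((hS.homology_exact₂ n).map T).isZero_of_both_zeros (ih.eq_of_src _ _) (IsZero.eq_of_tgt ?_ _ _)
      let p : ℤ := -(-n - 1 + c + k)
      have hi : ¬ Keep ((-n - 1 + c + k : ℤ) : EInt) p := by rw [EOne.keep_coe]; simp only [p]; omega
      have hj : Keep ((-n - 1 + c + (k + 1 : ℕ) : ℤ) : EInt) p := by rw [EOne.keep_coe]; simp only [p]; omega
      obtain ⟨e'⟩ := nonempty_step_iso_single M hij p hi hj (fun m hm => by
        rw [EOne.keep_coe, EOne.keep_coe]; simp only [p] at hm; omega)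
      obtain ⟨f⟩ := nonempty_tot_single_iso p (M.X p)
      exact (hcol p _).of_iso (T.mapIso ((HomologicalComplex.homologyFunctor C (ComplexShape.up ℤ) n).mapIso
        (tot.mapIso e' ≪≫ f) ≪≫
        ((HomologicalComplex.homologyFunctor C (ComplexShape.up ℤ) 0).shiftIso (-p) n (-p + n) rfl).app (M.X p)))
  rcases lt_or_ge (n + 2 - c) 0 with hn | hn
  · exact T.map_isZero
      (ShortComplex.isZero_homology_of_isZero_X₂ _ (isZero_tot_X _ n fun p q hpq => hM p q (by lia)))
  · obtain ⟨k, hk⟩ := Int.eq_ofNat_of_zero_le hn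
    have : IsIso (tObjι M ((-n - 1 + c + k : ℤ) : EInt)) := by
      haveI : ∀ p, IsIso ((tObjι M ((-n - 1 + c + k : ℤ) : EInt)).f p) := fun p => by
        by_cases hp : 0 ≤ p
        · exact isIso_tι M (by rw [EOne.keep_coe]; lia)
        · have hz : IsZero (M.X p) := by
            rw [IsZero.iff_id_eq_zero]
            ext q
            exact (hM p q (Or.inl (by lia))).eq_of_src _ _
          exact ⟨⟨0, (IsZero.of_mono (tι M _ p) hz).eq_of_src _ _, hz.eq_of_src _ _⟩⟩
      exact HomologicalComplex.Hom.isIso_of_components _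
    exact (hstep k).of_iso (T.mapIso ((HomologicalComplex.homologyFunctor C (ComplexShape.up ℤ) n).mapIso
      (tot.mapIso (asIso (tObjι M ((-n - 1 + c + k : ℤ) : EInt)))))).symm

section Cone

open CochainComplex.mappingCone

/-- The cones of the identities of the columns. -/
def coneId (M : Bi C) : Bi C where
  X p := CochainComplex.mappingCone (𝟙 (M.X p))
  d p p' := CochainComplex.mappingCone.map (𝟙 _) (𝟙 _) (M.d p p') (M.d p p') (by rw [Category.id_comp, Category.comp_id])
  shape p p' h := by
    ext n
    simp [ext_from_iff _ (n + 1) n rfl, CochainComplex.mappingCone.map, M.shape p p' h]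
  d_comp_d' p p' p'' _ _ := by
    rw [← CochainComplex.mappingCone.map_comp]
    ext n
    simp [ext_from_iff _ (n + 1) n rfl, CochainComplex.mappingCone.map]

/-- The embedding into the cones. -/
def toConeId (M : Bi C) : M ⟶ coneId M where
  f p := CochainComplex.mappingCone.inr (𝟙 (M.X p))
  comm' p p' _ := by
    simp [coneId, CochainComplex.mappingCone.map]

theorem mono_toConeId (M : Bi C) : Mono (toConeId M) := by
  haveI : ∀ p, Mono ((toConeId M).f p) := fun p => by
    haveI : ∀ q, Mono (((toConeId M).f p).f q) := fun q =>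
      mono_of_mono_fac (CochainComplex.mappingCone.inr_f_snd_v (𝟙 (M.X p)) q)
    exact HomologicalComplex.mono_of_mono_f _ inferInstance
  exact HomologicalComplex.mono_of_mono_f _ inferInstance

omit [HasCoproducts.{0} C] [AB4OfSize.{0} C] in
theorem isZero_coneId_homology (M : Bi C) (p k : ℤ) : IsZero (((coneId M).X p).homology k) := by
  rw [IsZero.iff_id_eq_zero, ← HomologicalComplex.homologyMap_id]
  exact ((homotopyToZeroOfId (M.X p)).homologyMap_eq k).trans (HomologicalComplex.homologyMap_zero _ _ _)

/-- Column-wise quasi-isomorphisms give quasi-isomorphisms of total complexes. -/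
theorem isIso_map_homologyMap_tot {M N : Bi C} (φ : M ⟶ N)
    (hM : ∀ p q : ℤ, p < 0 ∨ q < 0 → IsZero ((M.X p).X q))
    (hN : ∀ p q : ℤ, p < 0 ∨ q < 0 → IsZero ((N.X p).X q))
    (h : ∀ p k : ℤ, IsIso (T.map (HomologicalComplex.homologyMap (φ.f p) k))) (n : ℤ) :
    IsIso (T.map (HomologicalComplex.homologyMap (tot.map φ) n)) := by
  have hI : ∀ p q : ℤ, p < 0 ∨ q < -1 → IsZero (((coneId M).X p).X q) := fun p q hpq => by
    refine (CochainComplex.mappingCone.isZero_X_iff (𝟙 (M.X p)) q).2 ⟨hM p (q + 1) ?_, hM p q ?_⟩ <;>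
      rcases hpq with hpq | hpq <;> lia
  let ψ : M ⟶ N ⊞ coneId M := biprod.lift φ (toConeId M)
  haveI : Mono ψ := by
    haveI := mono_toConeId M
    exact mono_of_mono_fac (biprod.lift_snd φ (toConeId M))
  let S : ShortComplex (Bi C) := ShortComplex.mk ψ (cokernel.π ψ) (cokernel.condition ψ)
  have hS : S.ShortExact :=
    { exact := ShortComplex.exact_of_g_is_cokernel _ (cokernelIsCokernel _)
      mono_f := inferInstanceAs (Mono ψ)
      epi_g := inferInstanceAs (Epi (cokernel.π ψ)) }
  have hQ : ∀ p q : ℤ, p < 0 ∨ q < -1 → IsZero ((S.X₃.X p).X q) := fun p q hpq => by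
    have := ((hS.map_of_exact (HomologicalComplex.eval (CochainComplex C ℤ) (ComplexShape.up ℤ) p)).map_of_exact
      (HomologicalComplex.eval C (ComplexShape.up ℤ) q)).epi_g
    refine IsZero.of_epi ((S.g.f p).f q) ?_
    let G : Bi C ⥤ C := HomologicalComplex.eval (CochainComplex C ℤ) (ComplexShape.up ℤ) p ⋙
      HomologicalComplex.eval C (ComplexShape.up ℤ) q
    haveI := isIso_map_fst G N (coneId M) (hI p q hpq)
    exact (hN p q (by rcases hpq with hpq | hpq <;> lia)).of_iso (asIso (G.map (biprod.fst : N ⊞ coneId M ⟶ N)))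
  have key : ∀ p k : ℤ, IsZero (T.obj ((S.X₃.X p).homology k)) := fun p k => by
    refine isZero_map_homology_X₃ T (hS.map_of_exact (HomologicalComplex.eval (CochainComplex C ℤ) (ComplexShape.up ℤ) p))
      (fun k => ?_) k
    let G : Bi C ⥤ D := HomologicalComplex.eval (CochainComplex C ℤ) (ComplexShape.up ℤ) p ⋙
      HomologicalComplex.homologyFunctor C (ComplexShape.up ℤ) k ⋙ T
    haveI := isIso_map_fst G N (coneId M) (T.map_isZero (isZero_coneId_homology M p k))
    haveI : IsIso (G.map ψ ≫ G.map biprod.fst) := by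
      rw [← G.map_comp, biprod.lift_fst]
      exact h p k
    exact IsIso.of_isIso_comp_right (G.map ψ) (G.map biprod.fst)
  let G : Bi C ⥤ D := tot ⋙ HomologicalComplex.homologyFunctor C (ComplexShape.up ℤ) n ⋙ T
  haveI := isIso_map_fst G N (coneId M)
    (isZero_map_homology_tot T (coneId M) (-1) hI (fun p k => T.map_isZero (isZero_coneId_homology M p k)) n)
  haveI : IsIso (G.map ψ) :=
    isIso_map_homologyMap T (shortExact_map_tot hS) (isZero_map_homology_tot T S.X₃ (-1) hQ key) n
  have e : G.map ψ ≫ G.map biprod.fst = G.map φ := by rw [← G.map_comp, biprod.lift_fst]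
  exact e ▸ (inferInstance : IsIso (G.map ψ ≫ G.map biprod.fst))

end Cone

end

end SpSeqLib.TotQI
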