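import Mathlib.CategoryTheory.Abelian.RightDerived
import Mathlib.Algebra.Homology.HomologySequence
import Mathlib.Algebra.Homology.HomologicalComplexAbelian
import Mathlib.CategoryTheory.Preadditive.Biproducts
import Mathlib.CategoryTheory.Limits.Preserves.Shapes.Biproducts
import Mathlib.Algebra.Homology.ShortComplex.ExactFunctor

/-!
# The long exact sequence of a Mayer-Vietoris square of additive functors
-/

universe v v' u u'

set_option autoImplicit false
set_option linter.style.haveILetI false
set_option linter.unusedSectionVars false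
set_option backward.isDefEq.respectTransparency false
set_option backward.isDefEq.respectTransparency.types false

open CategoryTheory CategoryTheory.Limits

namespace SpSeqLib.RightDerivedMV

noncomputable section

variable {C : Type u} [Category.{v} C] [Abelian C] [HasInjectiveResolutions C]
  {D : Type u'} [Category.{v'} D] [Abelian D]
  {P A B T : C ⥤ D} [P.Additive] [A.Additive] [B.Additive] [T.Additive]
  (α : P ⟶ A) (β : P ⟶ B) (γ : A ⟶ T) (ε : B ⟶ T)
  (w : ∀ X, α.app X ≫ γ.app X = β.app X ≫ ε.app X)

include w in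
theorem seq_zero (X : C) : biprod.lift (α.app X) (β.app X) ≫ biprod.desc (γ.app X) (-ε.app X) = 0 :=
  biprod.lift_desc.trans (by rw [Preadditive.comp_neg, w X, add_neg_cancel])

variable {F : C} (R : InjectiveResolution F)

/-- A transformation on the resolution. -/
abbrev onR {G H : C ⥤ D} [G.Additive] [H.Additive] (η : G ⟶ H) :
    (G.mapHomologicalComplex (ComplexShape.up ℕ)).obj R.cocomplex ⟶
      (H.mapHomologicalComplex (ComplexShape.up ℕ)).obj R.cocomplex :=
  (NatTrans.mapHomologicalComplex η _).app R.cocomplex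

/-- The sequence of complexes. -/
def seq : ShortComplex (CochainComplex D ℕ) :=
  ShortComplex.mk (biprod.lift (onR R α) (onR R β)) (biprod.desc (onR R γ) (-onR R ε)) (by
    rw [biprod.lift_desc, Preadditive.comp_neg]
    ext n
    simp only [HomologicalComplex.add_f_apply, HomologicalComplex.neg_f_apply, HomologicalComplex.comp_f,
      HomologicalComplex.zero_f]
    change α.app _ ≫ γ.app _ + -(β.app _ ≫ ε.app _) = 0
    rw [w, add_neg_cancel])

variable (h : ∀ I : C, Injective I →
  (ShortComplex.mk (biprod.lift (α.app I) (β.app I)) (biprod.desc (γ.app I) (-ε.app I))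
    (seq_zero α β γ ε w I)).ShortExact)

theorem lift_mapBiprod {E E' : Type*} [Category* E] [Category* E'] [Preadditive E] [Preadditive E']
    [HasBinaryBiproducts E] [HasBinaryBiproducts E'] (G : E ⥤ E') [G.Additive]
    [PreservesBinaryBiproducts G]
    {W X Y : E} (f : W ⟶ X) (g : W ⟶ Y) :
    G.map (biprod.lift f g) ≫ (G.mapBiprod X Y).hom = biprod.lift (G.map f) (G.map g) := by
  rw [Functor.mapBiprod_hom]
  ext <;> simp [← G.map_comp]

theorem mapBiprod_desc {E E' : Type*} [Category* E] [Category* E'] [Preadditive E] [Preadditive E']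
    [HasBinaryBiproducts E] [HasBinaryBiproducts E'] (G : E ⥤ E') [G.Additive]
    [PreservesBinaryBiproducts G]
    {W X Y : E} (f : X ⟶ W) (g : Y ⟶ W) :
    (G.mapBiprod X Y).hom ≫ biprod.desc (G.map f) (G.map g) = G.map (biprod.desc f g) := by
  rw [← cancel_epi (G.mapBiprod X Y).inv, Iso.inv_hom_id_assoc, Functor.mapBiprod_inv]
  ext <;> simp [← G.map_comp]

include h in
theorem shortExact_seq : (seq α β γ ε w R).ShortExact := by
  refine HomologicalComplex.shortExact_of_degreewise_shortExact _ fun n => ?_
  let G := HomologicalComplex.eval D (ComplexShape.up ℕ) n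
  haveI := preservesBinaryBiproducts_of_preservesBiproducts G
  refine ShortComplex.shortExact_of_iso ?_ (h (R.cocomplex.X n) (R.injective n))
  refine ShortComplex.isoMk (Iso.refl _) (G.mapBiprod ((A.mapHomologicalComplex (ComplexShape.up ℕ)).obj R.cocomplex)
    ((B.mapHomologicalComplex (ComplexShape.up ℕ)).obj R.cocomplex)).symm (Iso.refl _) ?_ ?_
  · change 𝟙 _ ≫ G.map (biprod.lift (onR R α) (onR R β)) = biprod.lift (α.app _) (β.app _) ≫ _
    rw [Category.id_comp, Iso.symm_hom, Iso.eq_comp_inv, lift_mapBiprod]
    rfl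
  · change (G.mapBiprod _ _).inv ≫ G.map (biprod.desc (onR R γ) (-onR R ε)) = _ ≫ 𝟙 _
    rw [Category.comp_id, Iso.inv_comp_eq, ← mapBiprod_desc, G.map_neg]
    rfl

include w h in
/-- **The long exact sequence.** -/
theorem exists_delta (F : C) :
    ∃ δ : ∀ n : ℕ, (T.rightDerived n).obj F ⟶ (P.rightDerived (n + 1)).obj F,
      Mono (biprod.lift ((NatTrans.rightDerived α 0).app F) ((NatTrans.rightDerived β 0).app F)) ∧
      ∀ n : ℕ,
        (ComposableArrows.mk₂
          (biprod.lift ((NatTrans.rightDerived α n).app F) ((NatTrans.rightDerived β n).app F))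
          (biprod.desc ((NatTrans.rightDerived γ n).app F) (-((NatTrans.rightDerived ε n).app F)))).Exact ∧
        (ComposableArrows.mk₂
          (biprod.desc ((NatTrans.rightDerived γ n).app F) (-((NatTrans.rightDerived ε n).app F))) (δ n)).Exact ∧
        (ComposableArrows.mk₂ (δ n)
          (biprod.lift ((NatTrans.rightDerived α (n + 1)).app F) ((NatTrans.rightDerived β (n + 1)).app F))).Exact := by
  let R := injectiveResolution F
  have hS := shortExact_seq α β γ ε w R h
  let H := fun n => HomologicalComplex.homologyFunctor D (ComplexShape.up ℕ) n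
  haveI := fun n => preservesBinaryBiproducts_of_preservesBiproducts (H n)
  let e2 : ∀ n, (seq α β γ ε w R).X₂.homology n ≅ (A.rightDerived n).obj F ⊞ (B.rightDerived n).obj F := fun n =>
    (H n).mapBiprod _ _ ≪≫ biprod.mapIso (R.isoRightDerivedObj A n).symm (R.isoRightDerivedObj B n).symm
  have hl : ∀ n, (R.isoRightDerivedObj P n).inv ≫
      biprod.lift ((NatTrans.rightDerived α n).app F) ((NatTrans.rightDerived β n).app F) =
      HomologicalComplex.homologyMap (seq α β γ ε w R).f n ≫ (e2 n).hom := fun n => by
    rw [R.rightDerived_app_eq α n, R.rightDerived_app_eq β n]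
    dsimp only [e2, seq, Iso.trans_hom]
    rw [← Category.assoc (HomologicalComplex.homologyMap _ n)]
    erw [lift_mapBiprod (H n)]
    ext <;> simp [H] <;> rfl
  have hd : ∀ n, (e2 n).hom ≫
      biprod.desc ((NatTrans.rightDerived γ n).app F) (-((NatTrans.rightDerived ε n).app F)) =
      HomologicalComplex.homologyMap (seq α β γ ε w R).g n ≫ (R.isoRightDerivedObj T n).inv := fun n => by
    rw [R.rightDerived_app_eq γ n, R.rightDerived_app_eq ε n]
    dsimp only [e2, seq, Iso.trans_hom]
    rw [show HomologicalComplex.homologyMap (biprod.desc (onR R γ) (-onR R ε)) n =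
      ((H n).mapBiprod _ _).hom ≫ biprod.desc ((H n).map (onR R γ)) ((H n).map (-onR R ε)) from
        (mapBiprod_desc (H n) _ _).symm, Category.assoc, Category.assoc, (H n).map_neg]
    congr 1
    ext <;> simp [H] <;> rfl
  refine ⟨fun n => (R.isoRightDerivedObj T n).hom ≫ hS.δ n (n + 1) rfl ≫ (R.isoRightDerivedObj P (n + 1)).inv, ?_,
    fun n => ⟨?_, ?_, ?_⟩⟩
  · haveI := hS.mono_f
    haveI : Mono (HomologicalComplex.homologyMap (seq α β γ ε w R).f 0) :=
      HomologicalComplex.mono_homologyMap_of_mono_of_not_rel _ 0 (fun j => by simp)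
    have : biprod.lift ((NatTrans.rightDerived α 0).app F) ((NatTrans.rightDerived β 0).app F) =
        (R.isoRightDerivedObj P 0).hom ≫ HomologicalComplex.homologyMap (seq α β γ ε w R).f 0 ≫ (e2 0).hom := by
      rw [← hl, Iso.hom_inv_id_assoc]
    rw [this]
    infer_instance
  · have z : biprod.lift ((NatTrans.rightDerived α n).app F) ((NatTrans.rightDerived β n).app F) ≫
        biprod.desc ((NatTrans.rightDerived γ n).app F) (-((NatTrans.rightDerived ε n).app F)) = 0 := by
      rw [← cancel_epi (R.isoRightDerivedObj P n).inv, reassoc_of% (hl n), hd, comp_zero, ← Category.assoc,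
        ← HomologicalComplex.homologyMap_comp, (seq α β γ ε w R).zero, HomologicalComplex.homologyMap_zero,
        zero_comp]
    exact (ShortComplex.exact_of_iso (S₂ := ShortComplex.mk _ _ z)
      (ShortComplex.isoMk (R.isoRightDerivedObj P n).symm (e2 n) (R.isoRightDerivedObj T n).symm (hl n) (hd n))
      (hS.homology_exact₂ n)).exact_toComposableArrows
  · have z : biprod.desc ((NatTrans.rightDerived γ n).app F) (-((NatTrans.rightDerived ε n).app F)) ≫
        (R.isoRightDerivedObj T n).hom ≫ hS.δ n (n + 1) rfl ≫ (R.isoRightDerivedObj P (n + 1)).inv = 0 := by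
      rw [← cancel_epi (e2 n).hom, reassoc_of% (hd n), Iso.inv_hom_id_assoc, reassoc_of% (hS.comp_δ n (n + 1) rfl),
        zero_comp, comp_zero]
    exact (ShortComplex.exact_of_iso (S₂ := ShortComplex.mk _ _ z)
      (ShortComplex.isoMk (e2 n) (R.isoRightDerivedObj T n).symm (R.isoRightDerivedObj P (n + 1)).symm (hd n)
        (by simp)) (hS.homology_exact₃ n (n + 1) rfl)).exact_toComposableArrows
  · have z : ((R.isoRightDerivedObj T n).hom ≫ hS.δ n (n + 1) rfl ≫ (R.isoRightDerivedObj P (n + 1)).inv) ≫
        biprod.lift ((NatTrans.rightDerived α (n + 1)).app F) ((NatTrans.rightDerived β (n + 1)).app F) = 0 := by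
      rw [Category.assoc, Category.assoc, hl (n + 1), reassoc_of% (hS.δ_comp n (n + 1) rfl), zero_comp, comp_zero]
    exact (ShortComplex.exact_of_iso (S₂ := ShortComplex.mk _ _ z)
      (ShortComplex.isoMk (R.isoRightDerivedObj T n).symm (R.isoRightDerivedObj P (n + 1)).symm (e2 (n + 1))
        (by simp) (hl (n + 1))) (hS.homology_exact₁ n (n + 1) rfl)).exact_toComposableArrows

end

end SpSeqLib.RightDerivedMV
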