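import Mathlib.Algebra.Homology.DerivedCategory.DerivabilityStructureInjectives
import Mathlib.Algebra.Homology.HomotopyCategory.Triangulated
import Mathlib.CategoryTheory.Triangulated.Adjunction
import Mathlib.CategoryTheory.Shift.Adjunction
import Mathlib.Algebra.Homology.HomotopyCategory.ShiftSequence

/-!
# The homological functor `H^n(RS -)` on a bounded below derived category
-/

universe w v v' u u'

set_option linter.style.haveILetI false

open CategoryTheory CategoryTheory.Limits CategoryTheory.Pretriangulated

namespace SpSeqLib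

variable {C : Type u} [Category.{v} C] [Abelian C] [EnoughInjectives C] [HasDerivedCategory.{w} C]
  {D : Type u'} [Category.{v'} D] [Abelian D] (S : C ⥤ D) [S.Additive]

/-- Bounded below complexes of injectives up to homotopy. -/
abbrev KInj (C : Type u) [Category.{v} C] [Abelian C] := HomotopyCategory.Plus (InjectiveObject C)

/-- The functor `K⁺(Inj C) ⥤ D⁺(C)`. -/
noncomputable def toDPlus : KInj C ⥤ DerivedCategory.Plus C :=
  (InjectiveObject.ι C).mapHomotopyCategoryPlus ⋙ DerivedCategory.Plus.Qh

instance : (toDPlus (C := C)).EssSurj :=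
  inferInstanceAs (((InjectiveObject.ι C).mapHomotopyCategoryPlus ⋙ DerivedCategory.Plus.Qh).EssSurj)

noncomputable instance : (toDPlus (C := C)).CommShift ℤ := by
  dsimp only [toDPlus]; infer_instance

instance : (toDPlus (C := C)).IsTriangulated := by
  dsimp only [toDPlus]; infer_instance

lemma toDPlus_map_bijective (X Y : KInj C) :
    Function.Bijective ((toDPlus (C := C)).map : (X ⟶ Y) → _) := by
  obtain ⟨K, rfl⟩ := HomotopyCategory.Plus.quotient_obj_surjective Y
  let G := (InjectiveObject.ι C).mapHomotopyCategoryPlus
  have hQ : Function.Bijective (DerivedCategory.Plus.Qh.map :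
      (G.obj X ⟶ G.obj ((HomotopyCategory.Plus.quotient _).obj K)) → _) :=
    DerivedCategory.Plus.Qh_map_bijective_of_isKInjective _ _ (inferInstanceAs
      (CochainComplex.IsKInjective
        (((InjectiveObject.ι C).mapHomologicalComplex (.up ℤ)).obj K.obj)))
  exact hQ.comp ((Functor.FullyFaithful.ofFullyFaithful G).map_bijective _ _)

instance : (toDPlus (C := C)).Full :=
  ⟨fun {X Y} => (toDPlus_map_bijective X Y).surjective⟩

instance : (toDPlus (C := C)).Faithful :=
  ⟨fun {X Y} => (toDPlus_map_bijective X Y).injective⟩

instance : (toDPlus (C := C)).IsEquivalence where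

variable (C) in
/-- `D⁺(C)` is equivalent to `K⁺(Inj C)`. -/
noncomputable def dPlusEquiv : KInj C ≌ DerivedCategory.Plus C := (toDPlus (C := C)).asEquivalence

noncomputable instance : (dPlusEquiv C).functor.CommShift ℤ :=
  inferInstanceAs ((toDPlus (C := C)).CommShift ℤ)

instance : (dPlusEquiv C).functor.IsTriangulated :=
  inferInstanceAs ((toDPlus (C := C)).IsTriangulated)

noncomputable instance : (dPlusEquiv C).inverse.CommShift ℤ := (dPlusEquiv C).commShiftInverse ℤ

instance : (dPlusEquiv C).toAdjunction.CommShift ℤ := by
  haveI := (dPlusEquiv C).commShift_of_functor ℤ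
  infer_instance

instance : (dPlusEquiv C).inverse.IsTriangulated :=
  (dPlusEquiv C).toAdjunction.isTriangulated_rightAdjoint

/-- `RS`, with values in the homotopy category. -/
noncomputable def RS : DerivedCategory.Plus C ⥤ HomotopyCategory D (ComplexShape.up ℤ) :=
  (dPlusEquiv C).inverse ⋙ HomotopyCategory.Plus.ι (InjectiveObject C) ⋙
    (InjectiveObject.ι C ⋙ S).mapHomotopyCategory (ComplexShape.up ℤ)

noncomputable instance : (RS S).CommShift ℤ := by dsimp only [RS]; infer_instance

instance : (RS S).IsTriangulated := by dsimp only [RS]; infer_instance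

/-- `H⁰(RS -)`. -/
noncomputable def phi : DerivedCategory.Plus C ⥤ D :=
  RS S ⋙ HomotopyCategory.homologyFunctor D (ComplexShape.up ℤ) 0

instance : (phi S).IsHomological := by dsimp only [phi]; infer_instance

noncomputable instance : (phi S).ShiftSequence ℤ :=
  inferInstanceAs ((RS S ⋙ HomotopyCategory.homologyFunctor D (ComplexShape.up ℤ) 0).ShiftSequence ℤ)

/-- The value on the image of a complex of injectives. -/
noncomputable def phiShiftToDPlusIso (X : KInj C) (n : ℤ) :
    ((phi S).shift n).obj ((toDPlus (C := C)).obj X) ≅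
      (HomotopyCategory.homologyFunctor D (ComplexShape.up ℤ) n).obj
        (((InjectiveObject.ι C ⋙ S).mapHomotopyCategory (ComplexShape.up ℤ)).obj X.obj) :=
  (HomotopyCategory.Plus.ι (InjectiveObject C) ⋙
    (InjectiveObject.ι C ⋙ S).mapHomotopyCategory (ComplexShape.up ℤ) ⋙
      HomotopyCategory.homologyFunctor D (ComplexShape.up ℤ) n).mapIso
    ((dPlusEquiv C).unitIso.app X).symm

end SpSeqLib
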