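import Groth.Agent.SpSeqLib.Acyclic
import Groth.Agent.SpSeqLib.Homological
import Mathlib.Algebra.Homology.HomotopyCategory.SpectralObject
import Mathlib.Algebra.Homology.HomotopyCategory.ShortExact
import Mathlib.Algebra.Homology.SpectralObject.HasSpectralSequence

/-!
# The spectral object of the stupid filtration of a bounded below complex
-/

universe w v v' u u'

set_option autoImplicit false
set_option linter.style.haveILetI false
set_option linter.unusedSectionVars false
set_option backward.isDefEq.respectTransparency false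
set_option backward.isDefEq.respectTransparency.types false

open CategoryTheory CategoryTheory.Limits CategoryTheory.Pretriangulated ComposableArrows
open scoped ZeroObject

namespace SpSeqLib.StupidFil

noncomputable section

variable {C : Type u} [Category.{v} C] [Abelian C] (M : CochainComplex C ℤ)

/-- The degree `n` is kept at stage `i`. -/
def Keep (i : EInt) (n : ℤ) : Prop := ((-n + 1 : ℤ) : EInt) ≤ i

lemma Keep.mono_stage {i j : EInt} {n : ℤ} (h : Keep i n) (hij : i ≤ j) : Keep j n := le_trans h hij

lemma Keep.mono_deg {i : EInt} {n m : ℤ} (h : Keep i n) (hnm : n ≤ m) : Keep i m :=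
  le_trans (WithBotTop.coe_le_coe.2 (by lia)) h

open Classical in
/-- The objects. -/
def tX (i : EInt) (n : ℤ) : C := if Keep i n then M.X n else 0

lemma tX_eq {i : EInt} {n : ℤ} (h : Keep i n) : tX M i n = M.X n := if_pos h

lemma isZero_tX {i : EInt} {n : ℤ} (h : ¬ Keep i n) : IsZero (tX M i n) := by
  rw [tX, if_neg h]; exact isZero_zero C

open Classical in
/-- The inclusions. -/
def tι (i : EInt) (n : ℤ) : tX M i n ⟶ M.X n := if h : Keep i n then eqToHom (tX_eq M h) else 0

instance mono_tι (i : EInt) (n : ℤ) : Mono (tι M i n) := by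
  by_cases h : Keep i n
  · rw [tι, dif_pos h]; infer_instance
  · exact (isZero_tX M h).mono _

lemma isIso_tι {i : EInt} {n : ℤ} (h : Keep i n) : IsIso (tι M i n) := by
  rw [tι, dif_pos h]; infer_instance

open Classical in
/-- The differentials. -/
def tD (i : EInt) (n m : ℤ) : tX M i n ⟶ tX M i m :=
  if h : Keep i m then tι M i n ≫ M.d n m ≫ eqToHom (tX_eq M h).symm else 0

lemma tD_ι (i : EInt) (n m : ℤ) (hnm : n + 1 = m) : tD M i n m ≫ tι M i m = tι M i n ≫ M.d n m := by
  by_cases h : Keep i m
  · have e : tι M i m = eqToHom (tX_eq M h) := dif_pos h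
    rw [tD, dif_pos h, e, Category.assoc, Category.assoc, eqToHom_trans, eqToHom_refl, Category.comp_id]
  · exact (isZero_tX M fun hn => h (hn.mono_deg (by lia))).eq_of_src _ _

/-- A step of the stupid filtration. -/
def tObj (i : EInt) : CochainComplex C ℤ where
  X := tX M i
  d := tD M i
  shape n m hnm := by
    by_cases h : Keep i m
    · rw [tD, dif_pos h, M.shape n m hnm, zero_comp, comp_zero]
    · exact (isZero_tX M h).eq_of_tgt _ _
  d_comp_d' n m l hnm hml := by
    rw [← cancel_mono (tι M i l), Category.assoc, tD_ι M i m l hml, reassoc_of% tD_ι M i n m hnm,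
      M.d_comp_d, comp_zero, zero_comp]

/-- The inclusion of a step. -/
def tObjι (i : EInt) : tObj M i ⟶ M where
  f := tι M i
  comm' n m hnm := (tD_ι M i n m hnm).symm

open Classical in
/-- Transition maps. -/
def tMapX (i j : EInt) (hij : i ≤ j) (n : ℤ) : tX M i n ⟶ tX M j n :=
  if h : Keep i n then eqToHom ((tX_eq M h).trans (tX_eq M (h.mono_stage hij)).symm) else 0

lemma tMapX_ι (i j : EInt) (hij : i ≤ j) (n : ℤ) : tMapX M i j hij n ≫ tι M j n = tι M i n := by
  by_cases h : Keep i n
  · rw [tMapX, dif_pos h, tι, dif_pos (h.mono_stage hij), tι, dif_pos h, eqToHom_trans]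
  · exact (isZero_tX M h).eq_of_src _ _

/-- Transition maps. -/
def tMap {i j : EInt} (hij : i ≤ j) : tObj M i ⟶ tObj M j where
  f := tMapX M i j hij
  comm' n m hnm := by
    change tMapX M i j hij n ≫ tD M j n m = tD M i n m ≫ tMapX M i j hij m
    rw [← cancel_mono (tι M j m), Category.assoc, Category.assoc, tD_ι M j n m hnm, tMapX_ι,
      tD_ι M i n m hnm, ← Category.assoc, tMapX_ι]

/-- The stupid filtration as a functor. -/
def fil : EInt ⥤ CochainComplex C ℤ where
  obj := tObj M
  map f := tMap M (leOfHom f)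
  map_id i := by
    ext n
    change tMapX M i i le_rfl n = 𝟙 (tX M i n)
    rw [← cancel_mono (tι M i n), tMapX_ι, Category.id_comp]
  map_comp {i j k} f g := by
    ext n
    change tMapX M i k ((leOfHom f).trans (leOfHom g)) n = tMapX M i j (leOfHom f) n ≫ tMapX M j k (leOfHom g) n
    rw [← cancel_mono (tι M k n), Category.assoc, tMapX_ι, tMapX_ι, tMapX_ι]

instance mono_tMap {i j : EInt} (hij : i ≤ j) : Mono (tMap M hij) := by
  haveI : ∀ n, Mono ((tMap M hij).f n) := fun n => mono_of_mono_fac (tMapX_ι M i j hij n)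
  exact HomologicalComplex.mono_of_mono_f _ this

/-- The sequence of a pair of steps. -/
abbrev seq {i j : EInt} (hij : i ≤ j) : ShortComplex (CochainComplex C ℤ) :=
  ShortComplex.mk (tMap M hij) (cokernel.π (tMap M hij)) (cokernel.condition _)

lemma seq_shortExact {i j : EInt} (hij : i ≤ j) : (seq M hij).ShortExact :=
  { exact := ShortComplex.exact_of_g_is_cokernel _ (cokernelIsCokernel _)
    mono_f := inferInstanceAs (Mono (tMap M hij))
    epi_g := inferInstanceAs (Epi (cokernel.π (tMap M hij))) }

lemma seq_shortExact_eval {i j : EInt} (hij : i ≤ j) (n : ℤ) :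
    ((seq M hij).map (HomologicalComplex.eval C (ComplexShape.up ℤ) n)).ShortExact :=
  (seq_shortExact M hij).map_of_exact _

lemma isZero_quot_X_of_not_keep {i j : EInt} (hij : i ≤ j) (n : ℤ) (h : ¬ Keep j n) :
    IsZero ((seq M hij).X₃.X n) := by
  have := (seq_shortExact_eval M hij n).epi_g
  exact IsZero.of_epi ((seq M hij).g.f n) (isZero_tX M h)

lemma isZero_quot_X_of_keep {i j : EInt} (hij : i ≤ j) (n : ℤ) (h : Keep i n) :
    IsZero ((seq M hij).X₃.X n) := by
  haveI := isIso_tι M h
  haveI := isIso_tι M (h.mono_stage hij)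
  haveI : IsIso (tMapX M i j hij n) := by
    haveI : IsIso (tMapX M i j hij n ≫ tι M j n) := by rw [tMapX_ι]; infer_instance
    exact IsIso.of_isIso_comp_right _ (tι M j n)
  have := (seq_shortExact_eval M hij n).epi_g
  have h0 : (seq M hij).g.f n = 0 := by
    rw [← cancel_epi (tMapX M i j hij n), comp_zero]
    exact HomologicalComplex.congr_hom (seq M hij).zero n
  exact IsZero.of_epi_eq_zero _ h0

lemma isZero_quot_X_of_isZero {i j : EInt} (hij : i ≤ j) (n : ℤ) (h : IsZero (M.X n)) :
    IsZero ((seq M hij).X₃.X n) := by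
  have := (seq_shortExact_eval M hij n).epi_g
  exact IsZero.of_epi ((seq M hij).g.f n) (IsZero.of_mono (tι M j n) h)

/-- The degree `n` term of a single step. -/
lemma nonempty_quot_X_iso {i j : EInt} (hij : i ≤ j) (n : ℤ) (hi : ¬ Keep i n) (hj : Keep j n) :
    Nonempty ((seq M hij).X₃.X n ≅ M.X n) := by
  haveI := isIso_tι M hj
  have hS := seq_shortExact_eval M hij n
  haveI : IsIso ((seq M hij).g.f n) := (hS.isIso_g_iff).2 (isZero_tX M hi)
  exact ⟨(asIso ((seq M hij).g.f n)).symm ≪≫ asIso (tι M j n)⟩

variable [HasDerivedCategory.{w} C]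

/-- The spectral object in the derived category. -/
abbrev objD : Triangulated.SpectralObject (DerivedCategory C) EInt :=
  ((HomotopyCategory.spectralObjectMappingCone C).precomp (fil M)).mapTriangulatedFunctor DerivedCategory.Qh

/-- Its values are the quotients of the steps. -/
lemma nonempty_objD_iso {i j : EInt} (hij : i ≤ j) :
    Nonempty ((objD M).ω₁.obj (mk₁ (homOfLE hij)) ≅ DerivedCategory.Q.obj (seq M hij).X₃) := by
  haveI := CochainComplex.mappingCone.quasiIso_descShortComplex (seq_shortExact M hij)
  exact ⟨(DerivedCategory.quotientCompQhIso C).app _ ≪≫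
    @asIso (DerivedCategory C) _ _ _ (DerivedCategory.Q.map (CochainComplex.mappingCone.descShortComplex (seq M hij)))
      ((DerivedCategory.isIso_Q_map_iff_quasiIso _ _).2 inferInstance)⟩

variable [M.IsStrictlyGE 0]

instance isStrictlyGE_quot {i j : EInt} (hij : i ≤ j) : (seq M hij).X₃.IsStrictlyGE 0 := by
  rw [CochainComplex.isStrictlyGE_iff]
  exact fun n hn => isZero_quot_X_of_isZero M hij n (M.isZero_of_isStrictlyGE 0 n hn)

lemma plus_objD (D : ComposableArrows EInt 1) : DerivedCategory.TStructure.t.plus ((objD M).ω₁.obj D) := by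
  obtain ⟨i, j, f, rfl⟩ := ComposableArrows.mk₁_surjective D
  obtain ⟨e⟩ := nonempty_objD_iso M (leOfHom f)
  exact ⟨0, DerivedCategory.TStructure.t.isGE_of_iso e.symm 0⟩

/-- Its values in `D⁺`. -/
def ω₁Plus : ComposableArrows EInt 1 ⥤ DerivedCategory.Plus C :=
  ObjectProperty.lift _ (objD M).ω₁ (plus_objD M)

/-- The spectral object in `D⁺`. -/
def objPlus : Triangulated.SpectralObject (DerivedCategory.Plus C) EInt where
  ω₁ := ω₁Plus M
  δ' :=
    { app := fun D => DerivedCategory.Plus.ι.preimage ((objD M).δ'.app D ≫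
        (DerivedCategory.Plus.ι.commShiftIso (1 : ℤ)).inv.app
          ((functorArrows EInt 0 1 2 ⋙ ω₁Plus M).obj D))
      naturality := fun D D' φ => by
        apply DerivedCategory.Plus.ι.map_injective
        rw [Functor.map_comp, Functor.map_comp, Functor.map_preimage, Functor.map_preimage]
        refine ((objD M).δ'.naturality_assoc φ _).trans ?_
        refine (congrArg ((objD M).δ'.app D ≫ ·)
          ((DerivedCategory.Plus.ι.commShiftIso (1 : ℤ)).inv.naturality ((functorArrows EInt 0 1 2 ⋙ ω₁Plus M).map φ))).trans ?_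
        exact (Category.assoc _ _ _).symm }
  distinguished' D := by
    rw [← DerivedCategory.Plus.ι.map_distinguished_iff]
    refine isomorphic_distinguished _ ((objD M).distinguished' D) _
      (Triangle.isoMk _ _ (Iso.refl _) (Iso.refl _) (Iso.refl _) ?_ ?_ ?_)
    · exact (Category.comp_id _).trans (Category.id_comp _).symm
    · exact (Category.comp_id _).trans (Category.id_comp _).symm
    · refine ((congrArg (_ ≫ ·) (CategoryTheory.Functor.map_id _ _)).trans (Category.comp_id _)).trans
        (Eq.trans ?_ (Category.id_comp _).symm)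
      exact map_preimage_comp DerivedCategory.Plus.ι
        (X := (functorArrows EInt 1 2 2 ⋙ ω₁Plus M).obj D)
        (Y := ((functorArrows EInt 0 1 2 ⋙ ω₁Plus M).obj D)⟦(1 : ℤ)⟧) ((objD M).δ'.app D)
        ((DerivedCategory.Plus.ι.commShiftIso (1 : ℤ)).app ((functorArrows EInt 0 1 2 ⋙ ω₁Plus M).obj D))

variable [EnoughInjectives C] {D : Type u'} [Category.{v'} D] [Abelian D] (S : C ⥤ D) [S.Additive]

/-- The abelian spectral object. -/
def obj : Abelian.SpectralObject D EInt := mapHomological (objPlus M) (phi S)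

lemma nonempty_obj_iso {i j : EInt} (hij : i ≤ j) (n : ℤ) :
    Nonempty (((obj M S).H n).obj (mk₁ (homOfLE hij)) ≅
      ((phi S).shift n).obj (qPlus (seq M hij).X₃ ⟨0, inferInstance⟩)) := by
  obtain ⟨e⟩ := nonempty_objD_iso M hij
  exact ⟨((phi S).shift n).mapIso (DerivedCategory.Plus.ι.preimageIso e)⟩

end

end SpSeqLib.StupidFil
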